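import Cfsg.Agent.SpSlim.Cells

/-!
# The slim amalgam of the symplectic group has the group as universal completion
-/

set_option autoImplicit false
set_option linter.unusedVariables false

namespace CfsgLib.SpSlim

open Matrix

theorem Stab_of_ge {F : Type*} [Field F] {n m : ℕ} (h : n ≤ m) :
    (Stab m : Subgroup (Sp F n)) = ⊥ :=
  (Subgroup.eq_bot_iff_forall _).2 fun g hg => ext_basis
    (fun k => by rw [(mem_Stab.1 hg k (lt_of_lt_of_le k.isLt h)).1, act_one])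
    (fun k => by rw [(mem_Stab.1 hg k (lt_of_lt_of_le k.isLt h)).2, act_one])

theorem Stab_last {F : Type*} [Field F] {n : ℕ} {l : Fin n} (h : (l : ℕ) + 1 = n) :
    (Stab (l : ℕ) : Subgroup (Sp F n)) = Sgp l :=
  le_antisymm
    (fun g hg => mem_Sgp.2 fun k hk => mem_Stab.1 hg k (by
      have : (k : ℕ) ≠ l := fun e => hk (Fin.ext e)
      omega))
    (Sgp_le_Stab le_rfl)

namespace Amal

variable {G : Type*} [Group G] {F : Type*} [Field F] {n : ℕ} (A : Amal G F n)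

/-- The projection is an isomorphism above every `m`. -/
theorem faithful (hF : ∃ a : F, a ≠ 0 ∧ a ≠ 1) (m : ℕ) : A.Faithful m := by
  obtain ⟨a₀, ha₀, ha₁⟩ := hF
  induction hk : n - m using Nat.strong_induction_on generalizing m with
  | _ k ih =>
    rcases Nat.lt_or_ge (m + 1) n with h | h
    · refine Step.faithful (S :=
        { toAmal := A
          i := ⟨m, by omega⟩
          j := ⟨m + 1, h⟩
          hij := rfl
          ih := ih _ (by omega) (m + 1) rfl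
          ih_next := (ih _ (by omega) (m + 2) rfl).2
          a₀ := a₀
          a₀_ne := ha₀
          a₀_ne_one := ha₁ })
    rcases Nat.lt_or_ge m n with h' | h'
    · obtain ⟨l, rfl⟩ : ∃ l : Fin n, (l : ℕ) = m := ⟨⟨m, h'⟩, rfl⟩
      have e : A.Gn (l : ℕ) = A.Sl l := by
        refine le_antisymm (A.Gn_le (fun j hj => ?_) fun i hi hi' => ?_) (A.Sl_le_Gn le_rfl)
        · rw [show j = l from Fin.ext (by have := j.isLt; omega)]
        · omega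
      refine ⟨by rw [e]; exact A.pair_S l, ?_⟩
      rw [e, A.map_S, Stab_last (by omega)]
    · have e : A.Gn m = ⊥ :=
        le_bot_iff.1 (A.Gn_le (fun j hj => by have := j.isLt; omega) fun i hi hi' => by omega)
      refine ⟨fun x hx y hy _ => ?_, by rw [e, Subgroup.map_bot, Stab_of_ge h']⟩
      rw [e, SetLike.mem_coe, Subgroup.mem_bot] at hx hy
      rw [hx, hy]

end Amal

section Completion

variable {F : Type*} [Field F] {n : ℕ} {H : Type*} [Group H]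

/-- The graph of a homomorphism defined on a subgroup. -/
def graph {X : Subgroup (Sp F n)} (σ : X →* H) : Subgroup (H × Sp F n) := (σ.prod X.subtype).range

theorem mem_graph {X : Subgroup (Sp F n)} (σ : X →* H) (g : Sp F n) (hg : g ∈ X) :
    (σ ⟨g, hg⟩, g) ∈ graph σ := ⟨⟨g, hg⟩, rfl⟩

theorem graph_map {X : Subgroup (Sp F n)} (σ : X →* H) :
    (graph σ).map (MonoidHom.snd H (Sp F n)) = X := by
  rw [graph, MonoidHom.map_range]
  exact Subgroup.range_subtype X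

theorem graph_injOn {X : Subgroup (Sp F n)} (σ : X →* H) :
    Set.InjOn (MonoidHom.snd H (Sp F n)) ↑(graph σ) := by
  rintro _ ⟨a, rfl⟩ _ ⟨b, rfl⟩ h
  rw [Subtype.ext (h : (a : Sp F n) = b)]

theorem graph_le {X Y : Subgroup (Sp F n)} (hXY : X ≤ Y) (σ : X →* H) (Ψ : Y →* H)
    (h : ∀ (g : Sp F n) (hg : g ∈ X), Ψ ⟨g, hXY hg⟩ = σ ⟨g, hg⟩) : graph σ ≤ graph Ψ := by
  rintro _ ⟨⟨g, hg⟩, rfl⟩
  exact ⟨⟨g, hXY hg⟩, Prod.ext (h g hg) rfl⟩

theorem pair_injOn {X Y : Subgroup (Sp F n)} (σ : X →* H) (τ : Y →* H)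
    (h : ∃ Ψ : ↥(X ⊔ Y) →* H,
      (∀ (g : Sp F n) (hg : g ∈ X), Ψ ⟨g, Subgroup.mem_sup_left hg⟩ = σ ⟨g, hg⟩) ∧
        ∀ (g : Sp F n) (hg : g ∈ Y), Ψ ⟨g, Subgroup.mem_sup_right hg⟩ = τ ⟨g, hg⟩) :
    Set.InjOn (MonoidHom.snd H (Sp F n)) ↑(graph σ ⊔ graph τ) := by
  obtain ⟨Ψ, h1, h2⟩ := h
  exact (graph_injOn Ψ).mono (sup_le (graph_le le_sup_left σ Ψ h1) (graph_le le_sup_right τ Ψ h2))

theorem closure_subgroup {P : Sp F n → Prop} {X : Subgroup (Sp F n)} (h : ∀ g, g ∈ X ↔ P g) :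
    Subgroup.closure {g | P g} = X := by
  rw [show {g | P g} = (X : Set (Sp F n)) from Set.ext fun g => (h g).symm, Subgroup.closure_eq]

theorem act_fb_iff (g : Sp F n) (k : Fin n) : act g (fb k) = fb k ↔
    g.1 *ᵥ (Pi.single (Sum.inr k) (1 : F)) = Pi.single (Sum.inr k) (1 : F) := by
  rw [fb, act_neg, neg_inj]

/-- Existence and uniqueness of the completion map. -/
theorem completion (hF : ∃ a : F, a ≠ 0 ∧ a ≠ 1) (S M : Fin n → Subgroup (Sp F n))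
    (hS : ∀ j, S j = Sgp j) (hM : ∀ i : Fin n, (i : ℕ) + 1 < n → M i = Mgp i)
    (σ : ∀ j, ↥(S j) →* H) (μ : ∀ i, ↥(M i) →* H)
    (hSS : ∀ j l, j ≠ l → ∃ Ψ : ↥(S j ⊔ S l) →* H,
      (∀ (g : Sp F n) (hg : g ∈ S j), Ψ ⟨g, Subgroup.mem_sup_left hg⟩ = σ j ⟨g, hg⟩) ∧
        ∀ (g : Sp F n) (hg : g ∈ S l), Ψ ⟨g, Subgroup.mem_sup_right hg⟩ = σ l ⟨g, hg⟩)
    (hMM : ∀ i i' : Fin n, i ≠ i' → (i : ℕ) + 1 < n → (i' : ℕ) + 1 < n →
      ∃ Ψ : ↥(M i ⊔ M i') →* H,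
      (∀ (g : Sp F n) (hg : g ∈ M i), Ψ ⟨g, Subgroup.mem_sup_left hg⟩ = μ i ⟨g, hg⟩) ∧
        ∀ (g : Sp F n) (hg : g ∈ M i'), Ψ ⟨g, Subgroup.mem_sup_right hg⟩ = μ i' ⟨g, hg⟩)
    (hMS : ∀ i j : Fin n, (i : ℕ) + 1 < n → ∃ Ψ : ↥(M i ⊔ S j) →* H,
      (∀ (g : Sp F n) (hg : g ∈ M i), Ψ ⟨g, Subgroup.mem_sup_left hg⟩ = μ i ⟨g, hg⟩) ∧
        ∀ (g : Sp F n) (hg : g ∈ S j), Ψ ⟨g, Subgroup.mem_sup_right hg⟩ = σ j ⟨g, hg⟩) :
    ∃! Φ : Sp F n →* H,
      (∀ (j : Fin n) (g : Sp F n) (hg : g ∈ S j), Φ g = σ j ⟨g, hg⟩) ∧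
        ∀ (i : Fin n), (i : ℕ) + 1 < n → ∀ (g : Sp F n) (hg : g ∈ M i), Φ g = μ i ⟨g, hg⟩ := by
  let A : Amal (H × Sp F n) F n :=
    { φ := MonoidHom.snd H (Sp F n)
      Sl := fun j => graph (σ j)
      Ml := fun i => graph (μ i)
      map_S := fun j => (graph_map (σ j)).trans (hS j)
      map_M := fun i hi => (graph_map (μ i)).trans (hM i hi)
      pair_S := fun j => graph_injOn (σ j)
      pair_SS := fun j l hjl => pair_injOn _ _ (hSS j l hjl)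
      pair_MS := fun i j hi => pair_injOn _ _ (hMS i j hi)
      pair_MM := fun i i' hne hi hi' => pair_injOn _ _ (hMM i i' hne hi hi') }
  obtain ⟨hinj, hmap⟩ := A.faithful hF 0
  rw [Stab_zero] at hmap
  let p : A.Gn 0 →* Sp F n := A.φ.comp (A.Gn 0).subtype
  have hp : Function.Bijective p := by
    refine ⟨fun a b h => Subtype.ext (hinj a.2 b.2 h), fun g => ?_⟩
    obtain ⟨x, hx, rfl⟩ := Subgroup.mem_map.1 (hmap ▸ Subgroup.mem_top g : g ∈ (A.Gn 0).map A.φ)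
    exact ⟨⟨x, hx⟩, rfl⟩
  let e := MulEquiv.ofBijective p hp
  have key : ∀ x : A.Gn 0, (e.symm (p x)).1.1 = x.1.1 := fun x => by
    rw [show e.symm (p x) = x from e.symm_apply_apply x]
  refine ⟨((MonoidHom.fst H (Sp F n)).comp (A.Gn 0).subtype).comp e.symm.toMonoidHom,
    ⟨fun j g hg => ?_, fun i hi g hg => ?_⟩, ?_⟩
  · exact key ⟨_, A.Sl_le_Gn (Nat.zero_le _) (mem_graph (σ j) g hg)⟩
  · exact key ⟨_, A.Ml_le_Gn (Nat.zero_le _) hi (mem_graph (μ i) g hg)⟩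
  · rintro Φ ⟨h1, h2⟩
    have hsec : A.Gn 0 ≤ (MonoidHom.fst H (Sp F n)).eqLocus (Φ.comp (MonoidHom.snd H (Sp F n))) :=
      A.Gn_le (fun j _ => by rintro _ ⟨⟨g, hg⟩, rfl⟩; exact (h1 j g hg).symm)
        fun i _ hi => by rintro _ ⟨⟨g, hg⟩, rfl⟩; exact (h2 i hi g hg).symm
    refine MonoidHom.ext fun g => ?_
    obtain ⟨x, hx⟩ := hp.2 g
    subst hx
    exact (hsec x.2).symm.trans (key x).symm

end Completion

end CfsgLib.SpSlim
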