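import Cfsg.Agent.Forms.Symplectic

/-!
# Elements of the symplectic group used for the slim amalgam

`Q e v c` is `x ↦ x + ω(e,x) v + ω(v,x) e + c ω(e,x) e`, `plane i p q r t` acts on the plane of
`eb i`, `fb i` by a matrix of determinant one.
-/

set_option autoImplicit false
set_option linter.unusedVariables false

namespace CfsgLib.SpSlim

open Matrix CfsgLib.Forms

variable {F : Type*} [Field F] {n : ℕ}

/-- The space. -/
abbrev V (F : Type*) (n : ℕ) := Fin n ⊕ Fin n → F

/-- The symplectic group. -/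
abbrev Sp (F : Type*) [Field F] (n : ℕ) := ↥(Matrix.symplecticGroup (Fin n) F)

/-- The form. -/
noncomputable abbrev om : LinearMap.BilinForm F (V F n) := sympBilin n F

/-- The first half of the basis. -/
def eb (i : Fin n) : V F n := Pi.single (Sum.inl i) 1

/-- The second half, with the sign that makes `ω(eb i, fb i) = 1`. -/
def fb (i : Fin n) : V F n := - Pi.single (Sum.inr i) 1

theorem om_self (x : V F n) : om x x = 0 := sympBilin_isAlt x

theorem om_swap (x y : V F n) : om y x = - om x y := by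
  rw [sympBilin_apply, sympBilin_apply, sympForm_swap]

theorem om_eb_right (x : V F n) (i : Fin n) : om x (eb i) = x (Sum.inr i) := by
  rw [sympBilin_apply, eb, sympForm_single_inl]

theorem om_fb_right (x : V F n) (i : Fin n) : om x (fb i) = x (Sum.inl i) := by
  rw [fb, map_neg, sympBilin_apply, sympForm_single_inr, neg_neg]

theorem om_eb_left (x : V F n) (i : Fin n) : om (eb i) x = - x (Sum.inr i) := by
  rw [om_swap, om_eb_right]

theorem om_fb_left (x : V F n) (i : Fin n) : om (fb i) x = - x (Sum.inl i) := by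
  rw [om_swap, om_fb_right]

@[simp] theorem om_ee (i k : Fin n) : om (eb i) (eb k : V F n) = 0 := by
  rw [om_eb_right]; simp [eb]

@[simp] theorem om_ff (i k : Fin n) : om (fb i) (fb k : V F n) = 0 := by
  rw [om_fb_right]; simp [fb]

@[simp] theorem om_ef (i : Fin n) : om (eb i) (fb i : V F n) = 1 := by
  rw [om_fb_right]; simp [eb]

@[simp] theorem om_fe (i : Fin n) : om (fb i) (eb i : V F n) = -1 := by
  rw [om_eb_right]; simp [fb]

theorem om_ef_ne {i k : Fin n} (h : i ≠ k) : om (eb i) (fb k : V F n) = 0 := by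
  rw [om_fb_right]; simp [eb, Ne.symm h]

theorem om_fe_ne {i k : Fin n} (h : i ≠ k) : om (fb i) (eb k : V F n) = 0 := by
  rw [om_eb_right]; simp [fb, Ne.symm h]

theorem vec_ext {x y : V F n} (he : ∀ k, om x (eb k) = om y (eb k))
    (hf : ∀ k, om x (fb k) = om y (fb k)) : x = y := by
  funext a
  rcases a with a | a
  · simpa [om_fb_right] using hf a
  · simpa [om_eb_right] using he a

/-- The action. -/
abbrev act (g : Sp F n) (x : V F n) : V F n := g.1 *ᵥ x

theorem act_mul (g h : Sp F n) (x : V F n) : act (g * h) x = act g (act h x) := by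
  simp only [act, Submonoid.coe_mul, Matrix.mulVec_mulVec]

@[simp] theorem act_one (x : V F n) : act (1 : Sp F n) x = x := by simp [act]

theorem act_inv_act (g : Sp F n) (x : V F n) : act g⁻¹ (act g x) = x := by
  rw [← act_mul, inv_mul_cancel, act_one]

theorem act_act_inv (g : Sp F n) (x : V F n) : act g (act g⁻¹ x) = x := by
  rw [← act_mul, mul_inv_cancel, act_one]

theorem act_inv_eq {g : Sp F n} {x y : V F n} (h : act g x = y) : act g⁻¹ y = x := by
  rw [← h, act_inv_act]

theorem om_act (g : Sp F n) (x y : V F n) : om (act g x) (act g y) = om x y := by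
  rw [sympBilin_apply, sympBilin_apply]; exact sympForm_map g x y

theorem act_add (g : Sp F n) (x y : V F n) : act g (x + y) = act g x + act g y :=
  Matrix.mulVec_add _ _ _

theorem act_sub (g : Sp F n) (x y : V F n) : act g (x - y) = act g x - act g y :=
  Matrix.mulVec_sub _ _ _

theorem act_smul (g : Sp F n) (c : F) (x : V F n) : act g (c • x) = c • act g x :=
  Matrix.mulVec_smul _ _ _

theorem act_neg (g : Sp F n) (x : V F n) : act g (-x) = - act g x :=
  Matrix.mulVec_neg _ _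

theorem act_zero (g : Sp F n) : act g 0 = 0 := Matrix.mulVec_zero _

theorem act_ne_zero (g : Sp F n) {x : V F n} (hx : x ≠ 0) : act g x ≠ 0 := by
  intro h
  exact hx (by rw [← act_inv_act g x, h, act_zero])

theorem basis_sum (x : V F n) :
    x = ∑ k : Fin n, ((x (Sum.inl k)) • eb k + (-x (Sum.inr k)) • fb k) := by
  funext a
  rcases a with a | a <;> simp [eb, fb, Pi.single_apply, Finset.sum_apply]

/-- An element is determined by the images of the basis. -/
theorem ext_basis {g h : Sp F n} (he : ∀ k, act g (eb k) = act h (eb k))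
    (hf : ∀ k, act g (fb k) = act h (fb k)) : g = h := by
  refine sp_ext fun x => ?_
  conv_lhs => rw [basis_sum x]
  conv_rhs => rw [basis_sum x]
  simp only [Matrix.mulVec_sum, Matrix.mulVec_add, Matrix.mulVec_smul]
  exact Finset.sum_congr rfl fun k _ => by
    rw [show g.1 *ᵥ eb k = h.1 *ᵥ eb k from he k, show g.1 *ᵥ fb k = h.1 *ᵥ fb k from hf k]

/-- The linear map behind `Q`. -/
noncomputable def qlin (e v : V F n) (c : F) : V F n →ₗ[F] V F n :=
  LinearMap.id + (om e).smulRight v + (om v).smulRight e + (c • om e).smulRight e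

theorem qlin_apply (e v : V F n) (c : F) (x : V F n) :
    qlin e v c x = x + om e x • v + om v x • e + (c * om e x) • e := by
  simp [qlin]

open scoped Classical in
/-- The element `x ↦ x + ω(e,x) v + ω(v,x) e + c ω(e,x) e`. -/
noncomputable def Q (e v : V F n) (c : F) : Sp F n :=
  if h : ∀ x y, Cfsg.sympForm n F (qlin e v c x) (qlin e v c y) = Cfsg.sympForm n F x y then
    ⟨LinearMap.toMatrix' (qlin e v c), mem_symplecticGroup_iff_form.2 fun x y => by
      simp only [LinearMap.toMatrix'_mulVec, h]⟩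
  else 1

theorem qlin_form {e v : V F n} (h : om e v = 0) (c : F) (x y : V F n) :
    Cfsg.sympForm n F (qlin e v c x) (qlin e v c y) = Cfsg.sympForm n F x y := by
  rw [← sympBilin_apply, ← sympBilin_apply]
  have h' : om v e = 0 := by rw [om_swap, h, neg_zero]
  simp only [qlin_apply, map_add, map_smul, LinearMap.add_apply, LinearMap.smul_apply, smul_eq_mul,
    om_self, h, h', om_swap e x, om_swap v x]
  ring

theorem act_Q {e v : V F n} (h : om e v = 0) (c : F) (x : V F n) :
    act (Q e v c) x = x + om e x • v + om v x • e + (c * om e x) • e := by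
  rw [← qlin_apply, act, Q, dif_pos (qlin_form h c)]
  exact LinearMap.toMatrix'_mulVec _ _

theorem Q_fix {e v x : V F n} (h : om e v = 0) (c : F) (he : om e x = 0) (hv : om v x = 0) :
    act (Q e v c) x = x := by
  simp [act_Q h, he, hv]

theorem Q_zero (e : V F n) : Q e 0 0 = (1 : Sp F n) :=
  sp_ext fun x => show act (Q e 0 0) x = act 1 x by rw [act_Q (map_zero _), act_one]; simp

theorem Q_mul {e v v' : V F n} (h : om e v = 0) (h' : om e v' = 0) (c c' : F) :
    Q e v c * Q e v' c' = Q e (v + v') (c + c' + om v v') := by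
  have h'' : om e (v + v') = 0 := by rw [map_add, h, h', add_zero]
  refine sp_ext fun x => ?_
  show act _ x = act _ x
  have hve : om v e = 0 := by rw [om_swap, h, neg_zero]
  rw [act_mul, act_Q h, act_Q h', act_Q h'']
  simp only [map_add, map_smul, LinearMap.add_apply, smul_eq_mul, h', hve, om_self]
  module

theorem Q_inv {e v : V F n} (h : om e v = 0) (c : F) : (Q e v c)⁻¹ = Q e (-v) (-c) := by
  refine inv_eq_of_mul_eq_one_right ?_
  rw [Q_mul h (by rw [map_neg, h, neg_zero]), ← Q_zero e]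
  congr 1
  · exact add_neg_cancel v
  · rw [map_neg, om_self]; ring

theorem Q_conj {e v : V F n} (h : om e v = 0) (c : F) (g : Sp F n) :
    g * Q e v c * g⁻¹ = Q (act g e) (act g v) c := by
  have h' : om (act g e) (act g v) = 0 := by rw [om_act, h]
  refine sp_ext fun x => ?_
  show act _ x = act _ x
  obtain ⟨y, rfl⟩ : ∃ y, x = act g y := ⟨act g⁻¹ x, (act_act_inv g x).symm⟩
  rw [act_mul, act_mul, act_inv_act, act_Q h, act_Q h']
  simp only [act_add, act_smul, om_act]

theorem Q_comm_iff {e v : V F n} (h : om e v = 0) (c : F) {g : Sp F n} (he : act g e = e)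
    (hv : act g v = v) : g * Q e v c = Q e v c * g := by
  rw [← mul_inv_eq_iff_eq_mul, Q_conj h, he, hv]

theorem Q_scale {e v : V F n} (h : om e v = 0) (a c : F) (ha : a ≠ 0) :
    Q (a • e) v c = Q e (a • v) (a * a * c) := by
  have h1 : om (a • e) v = 0 := by simp [h]
  have h2 : om e (a • v) = 0 := by simp [h]
  refine sp_ext fun x => ?_
  show act _ x = act _ x
  rw [act_Q h1, act_Q h2]
  simp only [map_smul, LinearMap.smul_apply, smul_eq_mul]
  module

/-- The linear map behind `plane`. -/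
noncomputable def planelin (i : Fin n) (p q r t : F) : V F n →ₗ[F] V F n :=
  LinearMap.id + (- om (fb i)).smulRight ((p - 1) • eb i + q • fb i) +
    (om (eb i)).smulRight (r • eb i + (t - 1) • fb i)

theorem planelin_apply (i : Fin n) (p q r t : F) (x : V F n) :
    planelin i p q r t x = x + (- om (fb i) x) • ((p - 1) • eb i + q • fb i) +
      om (eb i) x • (r • eb i + (t - 1) • fb i) := by
  simp [planelin]

open scoped Classical in
/-- `eb i ↦ p eb i + q fb i`, `fb i ↦ r eb i + t fb i`, the rest fixed. -/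
noncomputable def plane (i : Fin n) (p q r t : F) : Sp F n :=
  if h : ∀ x y, Cfsg.sympForm n F (planelin i p q r t x) (planelin i p q r t y) =
      Cfsg.sympForm n F x y then
    ⟨LinearMap.toMatrix' (planelin i p q r t), mem_symplecticGroup_iff_form.2 fun x y => by
      simp only [LinearMap.toMatrix'_mulVec, h]⟩
  else 1

theorem planelin_form {i : Fin n} {p q r t : F} (h : p * t - q * r = 1) (x y : V F n) :
    Cfsg.sympForm n F (planelin i p q r t x) (planelin i p q r t y) = Cfsg.sympForm n F x y := by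
  rw [← sympBilin_apply, ← sympBilin_apply]
  simp only [planelin_apply, map_add, map_smul, LinearMap.add_apply, LinearMap.smul_apply,
    smul_eq_mul, om_ee, om_ff, om_ef, om_fe, om_swap (eb i) x, om_swap (fb i) x]
  linear_combination (-(om (fb i) x) * om (eb i) y + om (eb i) x * om (fb i) y) * h

variable {i : Fin n} {p q r t : F}

theorem act_plane (h : p * t - q * r = 1) (x : V F n) :
    act (plane i p q r t) x = x + (- om (fb i) x) • ((p - 1) • eb i + q • fb i) +
      om (eb i) x • (r • eb i + (t - 1) • fb i) := by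
  rw [← planelin_apply, act, plane, dif_pos (planelin_form h)]
  exact LinearMap.toMatrix'_mulVec _ _

theorem plane_eb (h : p * t - q * r = 1) : act (plane i p q r t) (eb i) = p • eb i + q • fb i := by
  rw [act_plane h, om_fe, om_ee]
  module

theorem plane_fb (h : p * t - q * r = 1) : act (plane i p q r t) (fb i) = r • eb i + t • fb i := by
  rw [act_plane h, om_ff, om_ef]
  module

theorem plane_fix (h : p * t - q * r = 1) {x : V F n} (he : om (eb i) x = 0)
    (hf : om (fb i) x = 0) : act (plane i p q r t) x = x := by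
  simp [act_plane h, he, hf]

/-- Pointwise stabiliser. -/
def fixer (K : Set (V F n)) : Subgroup (Sp F n) where
  carrier := {g | ∀ x ∈ K, act g x = x}
  one_mem' := fun x _ => act_one x
  mul_mem' := fun {g h} hg hh x hx => by rw [act_mul, hh x hx, hg x hx]
  inv_mem' := fun {g} hg x hx => act_inv_eq (hg x hx)

theorem mem_fixer {K : Set (V F n)} {g : Sp F n} : g ∈ fixer K ↔ ∀ x ∈ K, act g x = x := Iff.rfl

/-- The stabiliser of all planes but the `i`-th. -/
def Sgp (i : Fin n) : Subgroup (Sp F n) :=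
  fixer {x | ∃ k, k ≠ i ∧ (x = eb k ∨ x = fb k)}

theorem mem_Sgp {i : Fin n} {g : Sp F n} :
    g ∈ Sgp i ↔ ∀ k, k ≠ i → act g (eb k) = eb k ∧ act g (fb k) = fb k := by
  refine ⟨fun h k hk => ⟨h _ ⟨k, hk, Or.inl rfl⟩, h _ ⟨k, hk, Or.inr rfl⟩⟩, ?_⟩
  rintro h x ⟨k, hk, rfl | rfl⟩
  exacts [(h k hk).1, (h k hk).2]

/-- The abelian group of the `i`-th edge. -/
def Mgp (i : Fin n) : Subgroup (Sp F n) :=
  fixer {x | (∃ k, x = eb k) ∨ ∃ k : Fin n, (k : ℕ) ≠ i ∧ (k : ℕ) ≠ (i : ℕ) + 1 ∧ x = fb k}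

theorem mem_Mgp {i : Fin n} {g : Sp F n} : g ∈ Mgp i ↔ (∀ k, act g (eb k) = eb k) ∧
    ∀ k : Fin n, (k : ℕ) ≠ i → (k : ℕ) ≠ (i : ℕ) + 1 → act g (fb k) = fb k := by
  refine ⟨fun h => ⟨fun k => h _ (Or.inl ⟨k, rfl⟩), fun k h1 h2 => h _ (Or.inr ⟨k, h1, h2, rfl⟩)⟩, ?_⟩
  rintro ⟨h1, h2⟩ x (⟨k, rfl⟩ | ⟨k, h3, h4, rfl⟩)
  exacts [h1 k, h2 k h3 h4]

/-- The stabiliser of the planes below `m`. -/
def Stab (m : ℕ) : Subgroup (Sp F n) :=
  fixer {x | ∃ k : Fin n, (k : ℕ) < m ∧ (x = eb k ∨ x = fb k)}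

theorem mem_Stab {m : ℕ} {g : Sp F n} :
    g ∈ Stab m ↔ ∀ k : Fin n, (k : ℕ) < m → act g (eb k) = eb k ∧ act g (fb k) = fb k := by
  refine ⟨fun h k hk => ⟨h _ ⟨k, hk, Or.inl rfl⟩, h _ ⟨k, hk, Or.inr rfl⟩⟩, ?_⟩
  rintro h x ⟨k, hk, rfl | rfl⟩
  exacts [(h k hk).1, (h k hk).2]

theorem Stab_zero : (Stab 0 : Subgroup (Sp F n)) = ⊤ :=
  eq_top_iff.2 fun g _ => mem_Stab.2 fun k hk => absurd hk (Nat.not_lt_zero _)

theorem Stab_anti {m m' : ℕ} (h : m ≤ m') : (Stab m' : Subgroup (Sp F n)) ≤ Stab m :=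
  fun g hg => mem_Stab.2 fun k hk => mem_Stab.1 hg k (lt_of_lt_of_le hk h)

theorem plane_mem_Sgp (h : p * t - q * r = 1) : plane i p q r t ∈ Sgp i :=
  mem_Sgp.2 fun k hk => ⟨plane_fix h (om_ee i k) (om_fe_ne (Ne.symm hk)),
    plane_fix h (om_ef_ne (Ne.symm hk)) (om_ff i k)⟩

theorem Sgp_le_Stab {m : ℕ} (h : m ≤ (i : ℕ)) : (Sgp i : Subgroup (Sp F n)) ≤ Stab m :=
  fun g hg => mem_Stab.2 fun k hk => mem_Sgp.1 hg k fun e => by subst e; omega

theorem Mgp_le_Stab {m : ℕ} (h : m ≤ (i : ℕ)) : (Mgp i : Subgroup (Sp F n)) ≤ Stab m :=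
  fun g hg => mem_Stab.2 fun k hk => ⟨(mem_Mgp.1 hg).1 k, (mem_Mgp.1 hg).2 k (by omega) (by omega)⟩

/-- The vectors orthogonal to the planes below `m`. -/
noncomputable def W (m : ℕ) : Submodule F (V F n) where
  carrier := {v | ∀ k : Fin n, (k : ℕ) < m → om (eb k) v = 0 ∧ om (fb k) v = 0}
  zero_mem' := fun k _ => ⟨map_zero _, map_zero _⟩
  add_mem' := fun {a b} ha hb k hk => by
    simp [map_add, (ha k hk).1, (hb k hk).1, (ha k hk).2, (hb k hk).2]
  smul_mem' := fun c a ha k hk => by simp [(ha k hk).1, (ha k hk).2]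

theorem mem_W {m : ℕ} {v : V F n} :
    v ∈ W m ↔ ∀ k : Fin n, (k : ℕ) < m → om (eb k) v = 0 ∧ om (fb k) v = 0 := Iff.rfl

theorem W_anti {m m' : ℕ} (h : m ≤ m') : (W m' : Submodule F (V F n)) ≤ W m :=
  fun _ hv k hk => hv k (lt_of_lt_of_le hk h)

theorem eb_mem_W {m : ℕ} {k : Fin n} (h : m ≤ (k : ℕ)) : (eb k : V F n) ∈ W m :=
  fun l hl => ⟨om_ee l k, om_fe_ne fun e => by subst e; omega⟩

theorem fb_mem_W {m : ℕ} {k : Fin n} (h : m ≤ (k : ℕ)) : (fb k : V F n) ∈ W m :=
  fun l hl => ⟨om_ef_ne fun e => by subst e; omega, om_ff l k⟩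

theorem Stab_map_W {m : ℕ} {g : Sp F n} (hg : g ∈ Stab m) {v : V F n} (hv : v ∈ W m) :
    act g v ∈ W m := fun k hk => by
  obtain ⟨h1, h2⟩ := mem_Stab.1 hg k hk
  constructor
  · conv_lhs => rw [← h1]
    rw [om_act]; exact (hv k hk).1
  · conv_lhs => rw [← h2]
    rw [om_act]; exact (hv k hk).2

theorem W_eq_zero {m : ℕ} (h : n ≤ m) {v : V F n} (hv : v ∈ W m) : v = 0 := by
  refine vec_ext (fun k => ?_) (fun k => ?_)
  · rw [om_swap, (hv k (by omega)).1]; simp
  · rw [om_swap, (hv k (by omega)).2]; simp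

/-- Splitting off the first plane. -/
theorem W_split {m : ℕ} {k : Fin n} (hk : (k : ℕ) = m) {u : V F n} (hu : u ∈ W m) :
    u - om u (fb k) • eb k - om (eb k) u • fb k ∈ W (m + 1) := by
  intro l hl
  rcases eq_or_ne l k with rfl | hne
  · constructor
    · simp
    · simp [om_swap u (fb l)]
  · have hl' : (l : ℕ) < m := by
      rcases lt_or_eq_of_le (Nat.lt_succ_iff.1 hl) with h | h
      · exact h
      · exact absurd (Fin.ext (h.trans hk.symm)) hne
    simp [(hu l hl').1, (hu l hl').2, om_ef_ne hne, om_fe_ne hne]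

theorem Q_mem_Stab {m : ℕ} {e v : V F n} (he : e ∈ W m) (hv : v ∈ W m) (h : om e v = 0) (c : F) :
    Q e v c ∈ Stab m :=
  mem_Stab.2 fun k hk => ⟨Q_fix h c (by rw [om_swap, (he k hk).1, neg_zero])
    (by rw [om_swap, (hv k hk).1, neg_zero]), Q_fix h c (by rw [om_swap, (he k hk).2, neg_zero])
    (by rw [om_swap, (hv k hk).2, neg_zero])⟩

theorem W_partner {m : ℕ} {v : V F n} (hv : v ∈ W m) (h : v ≠ 0) :
    ∃ z ∈ W m, Cfsg.sympForm n F v z ≠ 0 := by
  by_contra hc
  push Not at hc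
  refine h (vec_ext (fun k => ?_) (fun k => ?_))
  · simp only [map_zero, LinearMap.zero_apply]
    by_cases hk : (k : ℕ) < m
    · rw [om_swap, (hv k hk).1, neg_zero]
    · rw [sympBilin_apply]; exact hc _ (eb_mem_W (by omega))
  · simp only [map_zero, LinearMap.zero_apply]
    by_cases hk : (k : ℕ) < m
    · rw [om_swap, (hv k hk).2, neg_zero]
    · rw [sympBilin_apply]; exact hc _ (fb_mem_W (by omega))

/-- Transitivity on hyperbolic pairs. -/
theorem exists_pair {m : ℕ} {u v u' v' : V F n} (hu : u ∈ W m) (hv : v ∈ W m) (hu' : u' ∈ W m)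
    (hv' : v' ∈ W m) (h : om u v = 1) (h' : om u' v' = 1) :
    ∃ g ∈ Stab m, act g u = u' ∧ act g v = v' := by
  rw [sympBilin_apply] at h h'
  obtain ⟨g, hg, h1, h2⟩ := exists_mem_transvGroup_pair (W m) (fun u hu hne => W_partner hu hne)
    hu hv hu' hv' h h'
  refine ⟨g, mem_Stab.2 fun k hk => ⟨transvGroup_fix hg fun w hw => ?_,
    transvGroup_fix hg fun w hw => ?_⟩, h1, h2⟩
  · rw [← sympBilin_apply]; exact (SetLike.mem_coe.1 hw k hk).1
  · rw [← sympBilin_apply]; exact (SetLike.mem_coe.1 hw k hk).2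

/-- Transitivity on nonzero vectors. -/
theorem exists_move {m : ℕ} {u u' : V F n} (hu : u ∈ W m) (hu' : u' ∈ W m) (h : u ≠ 0)
    (h' : u' ≠ 0) : ∃ g ∈ Stab m, act g u = u' := by
  obtain ⟨z, hz, hzne⟩ := W_partner hu h
  obtain ⟨z', hz', hzne'⟩ := W_partner hu' h'
  rw [← sympBilin_apply] at hzne hzne'
  obtain ⟨g, hg, h1, -⟩ := exists_pair (v := (om u z)⁻¹ • z) (v' := (om u' z')⁻¹ • z') hu
    ((W m).smul_mem _ hz) hu' ((W m).smul_mem _ hz')
    (by rw [map_smul, smul_eq_mul, inv_mul_cancel₀ hzne])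
    (by rw [map_smul, smul_eq_mul, inv_mul_cancel₀ hzne'])
  exact ⟨g, hg, h1⟩

/-- The stabiliser of `eb k` in `Stab k`. -/
theorem stab_decomp {m : ℕ} {k : Fin n} (hk : (k : ℕ) = m) {g : Sp F n} (hg : g ∈ Stab m)
    (he : act g (eb k) = eb k) :
    ∃ v ∈ W (m + 1), ∃ c, ∃ g' ∈ Stab (m + 1), om (eb k) v = 0 ∧ g = Q (eb k) v c * g' := by
  set u := act g (fb k) with hu
  have huW : u ∈ W m := Stab_map_W hg (fb_mem_W hk.ge)
  have h1 : om (eb k) u = 1 := by rw [← he, hu, om_act, om_ef]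
  obtain ⟨v, hv⟩ : ∃ v, v = u - om u (fb k) • eb k - fb k := ⟨_, rfl⟩
  have hvW : v ∈ W (m + 1) := by
    have := W_split hk huW
    rwa [h1, one_smul, ← hv] at this
  have hev : om (eb k) v = 0 := (hvW k (by omega)).1
  refine ⟨v, hvW, om u (fb k), (Q (eb k) v (om u (fb k)))⁻¹ * g, ?_, hev, (mul_inv_cancel_left _ _).symm⟩
  refine mem_Stab.2 fun l hl => ?_
  rcases eq_or_ne l k with rfl | hne
  · refine ⟨?_, ?_⟩
    · rw [act_mul, he]
      refine act_inv_eq (Q_fix hev _ (om_ee l l) ?_)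
      rw [om_swap, hev, neg_zero]
    · rw [act_mul, ← hu]
      refine act_inv_eq ?_
      have hvf : om v (fb l) = 0 := by rw [om_swap, (hvW l (by omega)).2, neg_zero]
      rw [act_Q hev, om_ef, hvf, hv]
      module
  · have hl' : (l : ℕ) < m := by
      rcases lt_or_eq_of_le (Nat.lt_succ_iff.1 hl) with h | h
      · exact h
      · exact absurd (Fin.ext (h.trans hk.symm)) hne
    have hQ := mem_Stab.1 (inv_mem (Q_mem_Stab (eb_mem_W hk.ge) (W_anti (Nat.le_succ m) hvW) hev
      (om u (fb k)))) l hl'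
    exact ⟨by rw [act_mul, (mem_Stab.1 hg l hl').1, hQ.1],
      by rw [act_mul, (mem_Stab.1 hg l hl').2, hQ.2]⟩

theorem Sgp_fix {g : Sp F n} (hg : g ∈ Sgp i) {x : V F n} (he : om (eb i) x = 0)
    (hf : om (fb i) x = 0) : act g x = x := by
  have hr : x (Sum.inr i) = 0 := by simpa [om_eb_left] using he
  have hl : x (Sum.inl i) = 0 := by simpa [om_fb_left] using hf
  rw [basis_sum x]
  simp only [act, Matrix.mulVec_sum, Matrix.mulVec_add, Matrix.mulVec_smul]
  refine Finset.sum_congr rfl fun k _ => ?_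
  rcases eq_or_ne k i with rfl | hk
  · simp [hr, hl]
  · rw [show g.1 *ᵥ eb k = eb k from (mem_Sgp.1 hg k hk).1,
      show g.1 *ᵥ fb k = fb k from (mem_Sgp.1 hg k hk).2]

theorem Sgp_plane {g : Sp F n} (hg : g ∈ Sgp i) {x : V F n} (hx : x = eb i ∨ x = fb i) :
    ∃ a b : F, act g x = a • eb i + b • fb i := by
  refine ⟨om (act g x) (fb i), om (eb i) (act g x), ?_⟩
  have h : ∀ k, k ≠ i → om (act g x) (eb k) = 0 ∧ om (act g x) (fb k) = 0 := by
    intro k hk
    obtain ⟨h1, h2⟩ := mem_Sgp.1 hg k hk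
    constructor
    · conv_lhs => rw [← h1]
      rw [om_act]; rcases hx with rfl | rfl <;> simp [om_fe_ne (Ne.symm hk)]
    · conv_lhs => rw [← h2]
      rw [om_act]; rcases hx with rfl | rfl <;> simp [om_ef_ne (Ne.symm hk)]
  refine vec_ext (fun k => ?_) (fun k => ?_) <;> rcases eq_or_ne k i with rfl | hk
  · simp [om_swap (act g x) (eb k)]
  · simp [(h k hk).1, om_fe_ne (Ne.symm hk)]
  · simp
  · simp [(h k hk).2, om_ef_ne (Ne.symm hk)]

theorem Sgp_commute {g g' : Sp F n} (hg : g ∈ Sgp i) (he : act g' (eb i) = eb i)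
    (hf : act g' (fb i) = fb i) : g * g' = g' * g := by
  have hperp : ∀ k, k ≠ i → ∀ x : V F n, (x = eb k ∨ x = fb k) →
      act g (act g' x) = act g' x ∧ act g x = x := by
    intro k hk x hx
    have h : om (eb i) x = 0 ∧ om (fb i) x = 0 := by
      rcases hx with rfl | rfl
      · exact ⟨om_ee _ _, om_fe_ne (Ne.symm hk)⟩
      · exact ⟨om_ef_ne (Ne.symm hk), om_ff _ _⟩
    refine ⟨Sgp_fix hg ?_ ?_, Sgp_fix hg h.1 h.2⟩
    · conv_lhs => rw [← he]
      rw [om_act, h.1]
    · conv_lhs => rw [← hf]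
      rw [om_act, h.2]
  refine ext_basis (fun k => ?_) (fun k => ?_) <;> rw [act_mul, act_mul] <;>
    rcases eq_or_ne k i with rfl | hk
  · obtain ⟨a, b, h⟩ := Sgp_plane hg (Or.inl rfl : eb k = eb k ∨ _)
    rw [he, h, act_add, act_smul, act_smul, he, hf]
  · rw [(hperp k hk _ (Or.inl rfl)).1, (hperp k hk _ (Or.inl rfl)).2]
  · obtain ⟨a, b, h⟩ := Sgp_plane hg (Or.inr rfl : fb k = eb k ∨ _)
    rw [hf, h, act_add, act_smul, act_smul, he, hf]
  · rw [(hperp k hk _ (Or.inr rfl)).1, (hperp k hk _ (Or.inr rfl)).2]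

end CfsgLib.SpSlim
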