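import Cfsg.Agent.SpSlim.Radical

/-!
# The inductive step of the slim amalgam

The group above `i` is the union of `P A0 P` and `P r P`, `P` the point stabiliser; the projection
is injective there.
-/

set_option autoImplicit false
set_option linter.unusedVariables false
set_option linter.unusedSimpArgs false
set_option linter.unnecessarySeqFocus false

namespace CfsgLib.SpSlim

open Matrix CfsgLib.Forms

theorem Q_neg_zero {F : Type*} [Field F] {n : ℕ} (v : V F n) (c : F) : Q (-v) 0 c = Q v 0 c := by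
  refine sp_ext fun x => ?_
  show act _ x = act _ x
  rw [act_Q (map_zero _), act_Q (map_zero _)]
  simp

namespace Step

variable {G : Type*} [Group G] {F : Type*} [Field F] {n : ℕ} (S : Step G F n)

/-- The sign change of the plane at `i`. -/
noncomputable def s : G := S.LA (plane S.i 0 1 (-1) 0)

/-- The torus of the plane at `i`. -/
noncomputable def hA (a : F) : G := S.LA (plane S.i a 0 0 a⁻¹)

/-- The lift of `Q f 0 c`. -/
noncomputable def z' (c : F) : G := S.LA (Q S.f 0 c)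

/-- The lift moving `e` to a multiple of `f`. -/
noncomputable def rb (b : F) : G := S.LA (plane S.i 0 b (-b⁻¹) 0)

/-- The opposite radical. -/
noncomputable def T' (v : V F n) : G := S.s * S.T v * S.s⁻¹

/-- The representative of the middle cell. -/
noncomputable def r : G := S.T' (-S.e1)

/-- The exchange of the two planes. -/
noncomputable def w : G := S.T S.f1 * S.r * S.T S.f1

theorem s_det : (0 : F) * 0 - 1 * (-1) = 1 := by ring

theorem hA_det {a : F} (ha : a ≠ 0) : a * a⁻¹ - 0 * 0 = 1 := by rw [mul_inv_cancel₀ ha]; ring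

theorem rb_det {b : F} (hb : b ≠ 0) : (0 : F) * 0 - b * (-b⁻¹) = 1 := by field_simp; ring

theorem φ_s : S.φ S.s = plane S.i 0 1 (-1) 0 := S.φ_LA (plane_mem_Sgp s_det)

theorem φ_hA {a : F} (ha : a ≠ 0) : S.φ (S.hA a) = plane S.i a 0 0 a⁻¹ :=
  S.φ_LA (plane_mem_Sgp (hA_det ha))

theorem Q_f_mem (c : F) : Q S.f 0 c ∈ Sgp S.i :=
  mem_Sgp.2 fun k hk => ⟨Q_fix (map_zero _) c (om_fe_ne (Ne.symm hk)) (by simp),
    Q_fix (map_zero _) c (om_ff _ _) (by simp)⟩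

theorem φ_z' (c : F) : S.φ (S.z' c) = Q S.f 0 c := S.φ_LA (S.Q_f_mem c)

theorem φ_rb {b : F} (hb : b ≠ 0) : S.φ (S.rb b) = plane S.i 0 b (-b⁻¹) 0 :=
  S.φ_LA (plane_mem_Sgp (rb_det hb))

theorem s_mem : S.s ∈ S.A0 := S.LA_mem _

theorem z'_mem (c : F) : S.z' c ∈ S.A0 := S.LA_mem _

theorem hA_mem (a : F) : S.hA a ∈ S.A0 := S.LA_mem _

theorem rb_mem (b : F) : S.rb b ∈ S.A0 := S.LA_mem _

theorem rb_act {b : F} (hb : b ≠ 0) : act (S.φ (S.rb b)) S.e = b • S.f := by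
  rw [S.φ_rb hb, plane_eb (rb_det hb)]; simp

theorem hA_act {a : F} (ha : a ≠ 0) : act (S.φ (S.hA a)) S.e = a • S.e := by
  rw [S.φ_hA ha, plane_eb (hA_det ha)]; simp

theorem e_ne : S.e ≠ 0 := fun h => by
  have := congrArg (fun v => om v S.f) h
  simp at this

theorem A0_fix_W {a : G} (ha : a ∈ S.A0) {v : V F n} (hv : v ∈ W (S.j : ℕ)) :
    act (S.φ a) v = v := Sgp_fix (S.φ_Sl ha) (S.om_e hv) (S.om_f hv)

theorem A0_plane {a : G} (ha : a ∈ S.A0) :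
    ∃ α β : F, act (S.φ a) S.e = α • S.e + β • S.f ∧ (β = 0 → α ≠ 0) := by
  obtain ⟨α, β, h⟩ := Sgp_plane (S.φ_Sl ha) (Or.inl rfl : S.e = eb S.i ∨ _)
  refine ⟨α, β, h, fun hb hα => act_ne_zero (S.φ a) S.e_ne ?_⟩
  rw [h, hb, hα]; simp

/-- An element of the plane group fixing `e`. -/
theorem A0_fix {a : G} (ha : a ∈ S.A0) (he : act (S.φ a) S.e = S.e) : ∃ c, a = S.z c := by
  have hg := S.φ_Sl ha
  set u := act (S.φ a) S.f with hu
  refine ⟨om u S.f, S.pair_S _ ha (S.z_mem _) ?_⟩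
  rw [S.φ_z]
  refine ext_basis (fun k => ?_) (fun k => ?_)
  · rw [Q_fix (map_zero _) _ (om_ee _ _) (by simp)]
    rcases eq_or_ne k S.i with rfl | hk
    · exact he
    · exact (mem_Sgp.1 hg k hk).1
  · rcases eq_or_ne k S.i with rfl | hk
    · obtain ⟨α, β, h⟩ := Sgp_plane hg (Or.inr rfl : S.f = eb S.i ∨ _)
      rw [act_Q (map_zero _), h, hu, h]
      have hb : β = 1 := by
        have h' : om (act (S.φ a) S.e) (act (S.φ a) S.f) = 1 := by rw [om_act, om_ef]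
        rw [he, h] at h'
        simpa using h'
      simp [hb, add_comm]
    · rw [(mem_Sgp.1 hg k hk).2, Q_fix (map_zero _) _ (om_ef_ne (Ne.symm hk)) (by simp)]

theorem A0_low {a : G} (ha : a ∈ S.A0) {α : F} (hα : α ≠ 0)
    (h : act (S.φ a) S.e = α • S.e) : ∃ c, a = S.hA α * S.z c := by
  obtain ⟨c, hc⟩ := S.A0_fix (mul_mem (inv_mem (S.hA_mem α)) ha)
    (by rw [map_mul, map_inv, act_mul, h]; exact act_inv_eq (S.hA_act hα))
  exact ⟨c, inv_mul_eq_iff_eq_mul.1 hc⟩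

theorem A0_high {a : G} (ha : a ∈ S.A0) {α β : F} (hβ : β ≠ 0)
    (h : act (S.φ a) S.e = α • S.e + β • S.f) :
    ∃ c c', a = S.z c * S.rb β * S.z c' := by
  have hx : act (S.φ (S.z (α / β) * S.rb β)) S.e = act (S.φ a) S.e := by
    rw [map_mul, act_mul, S.rb_act hβ, act_smul, S.φ_z, act_Q (map_zero _), om_ef, h]
    simp only [map_zero, LinearMap.zero_apply, smul_zero, zero_smul, add_zero, smul_add, smul_smul]
    rw [mul_one, mul_div_cancel₀ _ hβ, add_comm]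
  obtain ⟨c, hc⟩ := S.A0_fix (mul_mem (inv_mem (mul_mem (S.z_mem _) (S.rb_mem β))) ha)
    (by rw [map_mul, map_inv, act_mul, ← hx, act_inv_act])
  exact ⟨α / β, c, inv_mul_eq_iff_eq_mul.1 hc⟩

theorem act_s_e : act (S.φ S.s) S.e = S.f := by rw [S.φ_s, plane_eb s_det]; simp

theorem φ_T' {v : V F n} (hv : v ∈ W (S.j : ℕ)) : S.φ (S.T' v) = Q S.f v 0 := by
  rw [T', map_mul, map_mul, map_inv, S.φ_T hv, Q_conj (S.om_e hv), S.act_s_e,
    S.A0_fix_W S.s_mem hv]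

theorem T_smul_mem_B (a : F) : S.T (a • S.e1) ∈ S.B :=
  S.T_smul_e1 a ▸ S.mem_B_of_Ml (S.t1_mem a 0)

theorem T'_smul_mem_B (a : F) : S.T' (a • S.e1) ∈ S.B :=
  mul_mem (mul_mem (S.mem_B_of_A0 S.s_mem) (S.T_smul_mem_B a)) (inv_mem (S.mem_B_of_A0 S.s_mem))

theorem r_mem_B : S.r ∈ S.B := by
  rw [r, ← neg_one_smul F S.e1]; exact S.T'_smul_mem_B _

theorem φ_B {x : G} (hx : x ∈ S.B) :
    (∀ k, k ≠ S.i → act (S.φ x) (eb k) = eb k) ∧
      ∀ k : Fin n, k ≠ S.i → k ≠ S.j → act (S.φ x) (fb k) = fb k := by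
  have hle : S.B.map S.φ ≤ fixer {y : V F n | (∃ k, k ≠ S.i ∧ y = eb k) ∨
      ∃ k, k ≠ S.i ∧ k ≠ S.j ∧ y = fb k} := by
    rw [Subgroup.map_sup, S.map_M _ S.hi, S.map_S]
    refine sup_le (fun g hg => ?_) (fun g hg => ?_)
    · rintro y (⟨k, -, rfl⟩ | ⟨k, h1, h2, rfl⟩)
      · exact (mem_Mgp.1 hg).1 k
      · exact (mem_Mgp.1 hg).2 k (fun h => h1 (Fin.ext h))
          fun h => h2 (Fin.ext (by rw [h, S.hij]))
    · rintro y (⟨k, h1, rfl⟩ | ⟨k, h1, -, rfl⟩)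
      exacts [(mem_Sgp.1 hg k h1).1, (mem_Sgp.1 hg k h1).2]
  have h := hle (Subgroup.mem_map_of_mem _ hx)
  exact ⟨fun k hk => h _ (Or.inl ⟨k, hk, rfl⟩), fun k h1 h2 => h _ (Or.inr ⟨k, h1, h2, rfl⟩)⟩

theorem B_fix_e1 {x : G} (hx : x ∈ S.B) : act (S.φ x) S.e1 = S.e1 :=
  (S.φ_B hx).1 _ (Ne.symm S.i_ne_j)

theorem B_fix {x : G} (hx : x ∈ S.B) (he : act (S.φ x) S.e = S.e) : x ∈ S.Ml S.i := by
  have hm : S.φ x ∈ Mgp S.i := by
    refine mem_Mgp.2 ⟨fun k => ?_, fun k h1 h2 => (S.φ_B hx).2 k (fun h => h1 (by rw [h]))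
      fun h => h2 (by rw [h, S.hij])⟩
    rcases eq_or_ne k S.i with rfl | hk
    · exact he
    · exact (S.φ_B hx).1 k hk
  rw [show x = S.LM (S.φ x) from S.B_inj hx (S.mem_B_of_Ml (S.LM_mem _)) (S.φ_LM hm).symm]
  exact S.LM_mem _

theorem B_coset {x y : G} (hx : x ∈ S.B) (hy : y ∈ S.B)
    (h : act (S.φ x) S.e = act (S.φ y) S.e) : x⁻¹ * y ∈ S.P :=
  S.Ml_le_P (S.B_fix (mul_mem (inv_mem hx) hy) (by rw [map_mul, map_inv, act_mul, ← h, act_inv_act]))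

/-- The faithful pair moved along `e1 ↦ g e1`. -/
noncomputable def BV (g : Sp F n) : Subgroup G := S.B.comap (MulAut.conj (S.LD g)⁻¹).toMonoidHom

theorem mem_BV {g : Sp F n} {x : G} : x ∈ S.BV g ↔ (S.LD g)⁻¹ * x * S.LD g ∈ S.B := by
  simp [BV, mul_assoc]

theorem BV_inj (g : Sp F n) {x y : G} (hx : x ∈ S.BV g) (hy : y ∈ S.BV g) (h : S.φ x = S.φ y) :
    x = y := by
  rw [mem_BV] at hx hy
  have := S.B_inj hx hy (by simp only [map_mul, h])
  exact mul_left_cancel (mul_right_cancel this)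

theorem A0_conj_LD {a : G} (ha : a ∈ S.A0) (g : Sp F n) : (S.LD g)⁻¹ * a * S.LD g = a := by
  rw [mul_assoc, S.A0_comm_D ha (S.LD_mem g), inv_mul_cancel_left]

theorem A0_mem_BV {a : G} (ha : a ∈ S.A0) (g : Sp F n) : a ∈ S.BV g := by
  rw [mem_BV, S.A0_conj_LD ha]; exact S.mem_B_of_A0 ha

theorem T_mem_BV {g : Sp F n} (hg : g ∈ Stab (S.j : ℕ)) (a : F) :
    S.T (a • act g S.e1) ∈ S.BV g := by
  rw [mem_BV, ← act_smul, ← S.conj_T hg ((W _).smul_mem a S.e1_mem)]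
  convert S.T_smul_mem_B a using 1
  group

theorem T'_mem_BV {g : Sp F n} (hg : g ∈ Stab (S.j : ℕ)) (a : F) :
    S.T' (a • act g S.e1) ∈ S.BV g :=
  mul_mem (mul_mem (S.A0_mem_BV S.s_mem g) (S.T_mem_BV hg a)) (inv_mem (S.A0_mem_BV S.s_mem g))

theorem hA_conj_T {a : F} (ha : a ≠ 0) {v : V F n} (hv : v ∈ W (S.j : ℕ)) :
    S.hA a * S.T v * (S.hA a)⁻¹ = S.T (a • v) := by
  rcases eq_or_ne v 0 with rfl | h0
  · rw [smul_zero, S.T_zero]; group
  obtain ⟨g, hg, hgv⟩ := exists_move S.e1_mem hv S.e1_ne h0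
  have h1 : S.T v ∈ S.BV g := by
    have := S.T_mem_BV hg 1
    rwa [one_smul, hgv] at this
  refine S.BV_inj g (mul_mem (mul_mem (S.A0_mem_BV (S.hA_mem a) g) h1)
    (inv_mem (S.A0_mem_BV (S.hA_mem a) g))) (hgv ▸ S.T_mem_BV hg a) ?_
  rw [map_mul, map_mul, map_inv, S.φ_T hv, S.φ_T ((W _).smul_mem a hv), Q_conj (S.om_e hv),
    S.hA_act ha, S.A0_fix_W (S.hA_mem a) hv, Q_scale (S.om_e hv) a 0 ha, mul_zero]

theorem hA_conj_z {a : F} (ha : a ≠ 0) (c : F) :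
    S.hA a * S.z c * (S.hA a)⁻¹ = S.z (a * a * c) := by
  refine S.pair_S _ (mul_mem (mul_mem (S.hA_mem a) (S.z_mem c)) (inv_mem (S.hA_mem a))) (S.z_mem _) ?_
  rw [map_mul, map_mul, map_inv, S.φ_z, S.φ_z, Q_conj (map_zero _), S.hA_act ha, act_zero,
    Q_scale (map_zero _) a c ha, smul_zero]

theorem hA_conj_P {a : F} (ha : a ≠ 0) {p : G} (hp : p ∈ S.P) :
    S.hA a * p * (S.hA a)⁻¹ ∈ S.P := by
  obtain ⟨v, hv, c, g, hg, rfl⟩ := S.exists_Tzd hp
  have h : S.hA a * S.LD g * (S.hA a)⁻¹ = S.LD g := by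
    rw [S.A0_comm_D (S.hA_mem a) (S.LD_mem g), mul_inv_cancel_right]
  rw [show S.hA a * (S.T v * S.z c * S.LD g) * (S.hA a)⁻¹ = (S.hA a * S.T v * (S.hA a)⁻¹) *
      (S.hA a * S.z c * (S.hA a)⁻¹) * (S.hA a * S.LD g * (S.hA a)⁻¹) by group,
    S.hA_conj_T ha hv, S.hA_conj_z ha, h]
  exact mul_mem (mul_mem (S.T_mem_P ((W _).smul_mem a hv)) (S.z_mem_P _)) (S.D_le_P (S.LD_mem g))

theorem r_act_e : act (S.φ S.r) S.e = S.e + S.e1 := by
  rw [r, S.φ_T' (neg_mem S.e1_mem), act_Q (S.om_f (neg_mem S.e1_mem))]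
  simp

theorem r_act_e1 : act (S.φ S.r) S.e1 = S.e1 := S.B_fix_e1 S.r_mem_B

theorem T_act_e {v : V F n} (hv : v ∈ W (S.j : ℕ)) : act (S.φ (S.T v)) S.e = S.e := by
  rw [S.φ_T hv]; exact Q_fix (S.om_e hv) 0 (om_ee _ _) (S.om_e' hv)

theorem Tf1_act_e1 : act (S.φ (S.T S.f1)) S.e1 = S.e1 - S.e := by
  rw [S.φ_T S.f1_mem, act_Q (S.om_e S.f1_mem)]
  simp [sub_eq_add_neg]

theorem w_e : act (S.φ S.w) S.e = S.e1 := by
  rw [w, map_mul, map_mul, act_mul, act_mul, S.T_act_e S.f1_mem, S.r_act_e, act_add,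
    S.T_act_e S.f1_mem, S.Tf1_act_e1]
  abel

theorem w_e1 : act (S.φ S.w) S.e1 = -S.e := by
  rw [w, map_mul, map_mul, act_mul, act_mul, S.Tf1_act_e1, act_sub, S.r_act_e, S.r_act_e1,
    act_sub, act_add, S.T_act_e S.f1_mem]
  abel

theorem w_f1 : act (S.φ S.w) S.f1 = -S.f := by
  have hr : act (S.φ S.r) S.f1 = S.f1 - S.f := by
    rw [r, S.φ_T' (neg_mem S.e1_mem), act_Q (S.om_f (neg_mem S.e1_mem))]
    simp [sub_eq_add_neg]
  have hT : act (S.φ (S.T S.f1)) S.f1 = S.f1 :=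
    by rw [S.φ_T S.f1_mem]; exact Q_fix (S.om_e S.f1_mem) 0 (S.om_e S.f1_mem) (om_self _)
  have hTf : act (S.φ (S.T S.f1)) S.f = S.f + S.f1 := by
    rw [S.φ_T S.f1_mem, act_Q (S.om_e S.f1_mem)]
    simp [S.om_f' S.f1_mem]
  rw [w, map_mul, map_mul, act_mul, act_mul, hT, hr, act_sub, hT, hTf]
  abel

theorem w_conj_z (c : F) : S.w⁻¹ * S.z c * S.w ∈ S.D := by
  have hmid : S.r⁻¹ * S.z c * S.r ∈ S.Ml S.i := by
    refine S.B_fix (mul_mem (mul_mem (inv_mem S.r_mem_B) (S.mem_B_of_A0 (S.z_mem c))) S.r_mem_B) ?_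
    rw [map_mul, map_mul, map_inv, act_mul, act_mul, S.r_act_e, S.φ_z,
      Q_fix (map_zero _) c (by simp [S.om_e S.e1_mem]) (by simp)]
    exact act_inv_eq S.r_act_e
  have hz := S.T_comm_z S.f1_mem c
  have hP : S.w⁻¹ * S.z c * S.w ∈ S.P := by
    have e : S.w⁻¹ * S.z c * S.w = (S.T S.f1)⁻¹ * (S.r⁻¹ * S.z c * S.r) * S.T S.f1 := by
      calc S.w⁻¹ * S.z c * S.w
          = (S.T S.f1)⁻¹ * S.r⁻¹ * ((S.T S.f1)⁻¹ * (S.z c * S.T S.f1)) * S.r * S.T S.f1 := by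
            rw [w]; group
        _ = _ := by rw [← hz]; group
    rw [e]
    exact mul_mem (mul_mem (inv_mem (S.T_mem_P S.f1_mem)) (S.Ml_le_P hmid)) (S.T_mem_P S.f1_mem)
  rw [S.mem_D_of_P hP]
  · exact S.LD_mem _
  · have h : act (S.φ S.w)⁻¹ S.e = -S.e1 := act_inv_eq (by rw [act_neg, S.w_e1, neg_neg])
    have hc := Q_conj (e := S.e) (v := (0 : V F n)) (map_zero _) c (S.φ S.w)⁻¹
    rw [inv_inv, h, act_zero] at hc
    rw [map_mul, map_mul, map_inv, S.φ_z, hc, Q_neg_zero]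
    exact S.Sgp_j_le (S.Q_e1_mem_Sgp c)

/-- The exchange of `e1` and `f1`. -/
noncomputable def g1 : Sp F n := plane S.j 0 1 (-1) 0

theorem g1_mem : S.g1 ∈ Sgp S.j := plane_mem_Sgp s_det

theorem g1_e1 : act S.g1 S.e1 = S.f1 := by rw [g1, plane_eb s_det]; simp

theorem tau_f1_mem_BV (d : F) : S.LD (Q S.f1 0 d) ∈ S.BV S.g1 := by
  have hg := S.Sgp_j_le S.g1_mem
  have h : Q S.f1 0 d = S.g1 * Q S.e1 0 d * S.g1⁻¹ := by
    rw [Q_conj (map_zero _), S.g1_e1, act_zero]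
  have hQ := S.Sgp_j_le (S.Q_e1_mem_Sgp d)
  rw [mem_BV, h, S.LD_mul (mul_mem hg hQ) (inv_mem hg), S.LD_mul hg hQ, S.LD_inv hg]
  convert S.mem_B_of_Ml (S.LD_Q_e1_mem d) using 1
  group

theorem w_conj_tau (d : F) : S.w * S.LD (Q S.f1 0 d) * S.w⁻¹ = S.z' d := by
  have hg := S.Sgp_j_le S.g1_mem
  set τ := Q S.f1 0 d with hτ
  have hτS : τ ∈ Stab (S.j : ℕ) := S.Sgp_j_le (S.Q_f1_mem_Sgp d)
  have hfix : act τ S.f1 = S.f1 := Q_fix (map_zero _) d (om_self _) (by simp)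
  have he1 : act τ⁻¹ (-S.e1) = -S.e1 + (-d) • S.f1 := by
    rw [hτ, Q_inv (map_zero _), act_Q (by simp)]
    simp
  have hT : S.T S.f1 * S.LD τ = S.LD τ * S.T S.f1 := by
    have := S.conj_T hτS S.f1_mem
    rw [hfix] at this
    exact (mul_inv_eq_iff_eq_mul.1 this).symm
  have hcomm : (S.LD τ)⁻¹ * S.r * S.LD τ = S.T' (-S.e1 + (-d) • S.f1) := by
    have h1 := S.conj_T (inv_mem hτS) (neg_mem S.e1_mem)
    rw [S.LD_inv hτS, inv_inv, he1] at h1
    have hs := S.A0_conj_LD S.s_mem τ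
    calc (S.LD τ)⁻¹ * S.r * S.LD τ
        = ((S.LD τ)⁻¹ * S.s * S.LD τ) * ((S.LD τ)⁻¹ * S.T (-S.e1) * S.LD τ) *
          ((S.LD τ)⁻¹ * S.s * S.LD τ)⁻¹ := by rw [r, T']; group
      _ = _ := by rw [hs, h1]; rfl
  set u := -S.e1 + (-d) • S.f1 with hu
  have hprod : S.T' u * (S.r)⁻¹ = S.T' ((-d) • S.f1) * (S.s * S.z (om u S.e1) * S.s⁻¹) := by
    have h := S.T_mul (v := u) (w := S.e1)
      (add_mem (neg_mem S.e1_mem) ((W _).smul_mem _ S.f1_mem)) S.e1_mem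
    rw [hu, neg_add_cancel_comm, ← hu] at h
    rw [r, T', T', T', S.T_neg S.e1_mem]
    calc S.s * S.T u * S.s⁻¹ * (S.s * (S.T S.e1)⁻¹ * S.s⁻¹)⁻¹
        = S.s * (S.T u * S.T S.e1) * S.s⁻¹ := by group
      _ = _ := by rw [h]; group
  have key : S.w * S.LD τ * S.w⁻¹ =
      S.T S.f1 * (S.LD τ * (S.T' ((-d) • S.f1) * (S.s * S.z (om u S.e1) * S.s⁻¹))) *
        (S.T S.f1)⁻¹ := by
    rw [← hprod, ← hcomm]
    calc S.w * S.LD τ * S.w⁻¹
        = S.T S.f1 * S.r * (S.T S.f1 * S.LD τ) * (S.T S.f1)⁻¹ * S.r⁻¹ * (S.T S.f1)⁻¹ := by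
          rw [w]; group
      _ = _ := by rw [hT]; group
  refine S.BV_inj S.g1 ?_ (S.A0_mem_BV (S.z'_mem d) _) ?_
  · rw [key]
    have h1 : S.T S.f1 ∈ S.BV S.g1 := by
      have := S.T_mem_BV hg 1
      rwa [one_smul, S.g1_e1] at this
    have h2 : S.T' ((-d) • S.f1) ∈ S.BV S.g1 := by
      have := S.T'_mem_BV hg (-d)
      rwa [S.g1_e1] at this
    have h3 := mul_mem (mul_mem (S.A0_mem_BV S.s_mem S.g1) (S.A0_mem_BV (S.z_mem (om u S.e1)) _))
      (inv_mem (S.A0_mem_BV S.s_mem S.g1))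
    exact mul_mem (mul_mem h1 (mul_mem (S.tau_f1_mem_BV d) (mul_mem h2 h3))) (inv_mem h1)
  · rw [map_mul, map_mul, map_inv, S.φ_LD hτS, hτ, Q_conj (map_zero _), S.w_f1, act_zero,
      Q_neg_zero, S.φ_z']

theorem A0_gen : S.A0 ≤ Subgroup.closure (Set.range S.z ∪ Set.range S.z') := by
  set H := Subgroup.closure (Set.range S.z ∪ Set.range S.z')
  have hz : ∀ c, S.z c ∈ H := fun c => Subgroup.subset_closure (Or.inl ⟨c, rfl⟩)
  have hrb : ∀ b : F, b ≠ 0 → S.rb b ∈ H := by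
    intro b hb
    have h : S.rb b = S.z (-b⁻¹) * S.z' (-b) * S.z (-b⁻¹) := by
      refine S.pair_S _ (S.rb_mem b) (mul_mem (mul_mem (S.z_mem _) (S.z'_mem _)) (S.z_mem _)) ?_
      rw [map_mul, map_mul, S.φ_rb hb, S.φ_z, S.φ_z']
      refine ext_basis (fun k => ?_) (fun k => ?_) <;> rcases eq_or_ne k S.i with rfl | hk
      · rw [plane_eb (rb_det hb), act_mul, act_mul]
        simp only [act_Q (map_zero _), Step.e, Step.f, map_zero, LinearMap.zero_apply, smul_zero,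
          zero_smul, add_zero, om_ee, om_ef, om_fe, om_ff, mul_zero, map_add, map_smul, smul_eq_mul]
        match_scalars <;> field_simp <;> ring
      · rw [(mem_Sgp.1 (plane_mem_Sgp (rb_det hb)) k hk).1,
          (mem_Sgp.1 (mul_mem (mul_mem (S.Q_e_mem_Sgp_i (-b⁻¹)) (S.Q_f_mem (-b)))
            (S.Q_e_mem_Sgp_i (-b⁻¹))) k hk).1]
      · rw [plane_fb (rb_det hb), act_mul, act_mul]
        simp only [act_Q (map_zero _), Step.e, Step.f, map_zero, LinearMap.zero_apply, smul_zero,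
          zero_smul, add_zero, om_ee, om_ef, om_fe, om_ff, mul_zero, map_add, map_smul, smul_eq_mul]
        match_scalars <;> field_simp <;> ring
      · rw [(mem_Sgp.1 (plane_mem_Sgp (rb_det hb)) k hk).2,
          (mem_Sgp.1 (mul_mem (mul_mem (S.Q_e_mem_Sgp_i (-b⁻¹)) (S.Q_f_mem (-b)))
            (S.Q_e_mem_Sgp_i (-b⁻¹))) k hk).2]
    rw [h]
    exact mul_mem (mul_mem (hz _) (Subgroup.subset_closure (Or.inr ⟨_, rfl⟩))) (hz _)
  intro a ha
  obtain ⟨α, β, h, hne⟩ := S.A0_plane ha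
  rcases eq_or_ne β 0 with rfl | hβ
  · have hα := hne rfl
    rw [zero_smul, add_zero] at h
    obtain ⟨c, rfl⟩ := S.A0_low ha hα h
    have hh : S.hA α = S.rb α⁻¹ * S.rb (-1) := by
      refine S.pair_S _ (S.hA_mem α) (mul_mem (S.rb_mem _) (S.rb_mem _)) ?_
      rw [map_mul, S.φ_hA hα, S.φ_rb (inv_ne_zero hα), S.φ_rb (neg_ne_zero.2 one_ne_zero)]
      have d1 := rb_det (inv_ne_zero hα)
      have d2 := rb_det (neg_ne_zero.2 (one_ne_zero : (1 : F) ≠ 0))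
      refine ext_basis (fun k => ?_) (fun k => ?_) <;> rcases eq_or_ne k S.i with rfl | hk
      · rw [plane_eb (hA_det hα), act_mul, plane_eb d2, act_add, act_smul, act_smul, plane_eb d1,
          plane_fb d1]
        simp
      · rw [act_mul, (mem_Sgp.1 (plane_mem_Sgp d2) k hk).1, (mem_Sgp.1 (plane_mem_Sgp d1) k hk).1,
          (mem_Sgp.1 (plane_mem_Sgp (hA_det hα)) k hk).1]
      · rw [plane_fb (hA_det hα), act_mul, plane_fb d2, act_add, act_smul, act_smul, plane_eb d1,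
          plane_fb d1]
        simp
      · rw [act_mul, (mem_Sgp.1 (plane_mem_Sgp d2) k hk).2, (mem_Sgp.1 (plane_mem_Sgp d1) k hk).2,
          (mem_Sgp.1 (plane_mem_Sgp (hA_det hα)) k hk).2]
    rw [hh]
    exact mul_mem (mul_mem (hrb _ (inv_ne_zero hα)) (hrb _ (neg_ne_zero.2 one_ne_zero))) (hz c)
  · obtain ⟨c, c', rfl⟩ := S.A0_high ha hβ h
    exact mul_mem (mul_mem (hz c) (hrb β hβ)) (hz c')

theorem w_conj_A0 {a : G} (ha : a ∈ S.A0) : S.w⁻¹ * a * S.w ∈ S.D := by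
  have h : S.A0 ≤ S.D.comap (MulAut.conj S.w⁻¹).toMonoidHom := by
    refine S.A0_gen.trans ((Subgroup.closure_le _).2 ?_)
    rintro _ (⟨c, rfl⟩ | ⟨c, rfl⟩)
    · simpa [mul_assoc] using S.w_conj_z c
    · rw [← S.w_conj_tau c]
      simp [mul_assoc, S.LD_mem]
  simpa [mul_assoc] using h ha

theorem r_eq_w : S.r = (S.T S.f1)⁻¹ * S.w * (S.T S.f1)⁻¹ := by rw [w]; group

theorem hA_r {a : F} (ha : a ≠ 0) : S.hA a * S.r =
    S.T (-(a • S.f1)) * S.w * (S.w⁻¹ * S.hA a * S.w) * (S.T S.f1)⁻¹ := by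
  rw [S.T_neg ((W _).smul_mem a S.f1_mem), ← S.hA_conj_T ha S.f1_mem, S.r_eq_w]
  group

theorem LD_comm_r {g : Sp F n} (hg : g ∈ Stab (S.j : ℕ)) (h : act g S.e1 = S.e1) :
    S.LD g * S.r = S.r * S.LD g := by
  have h1 := S.conj_T hg (neg_mem S.e1_mem)
  rw [act_neg, h] at h1
  have hT := mul_inv_eq_iff_eq_mul.1 h1
  have hs : S.LD g * S.s = S.s * S.LD g := (S.A0_comm_D S.s_mem (S.LD_mem g)).symm
  have hs' : S.LD g * S.s⁻¹ = S.s⁻¹ * S.LD g :=
    (S.A0_comm_D (inv_mem S.s_mem) (S.LD_mem g)).symm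
  rw [r, T']
  calc S.LD g * (S.s * S.T (-S.e1) * S.s⁻¹)
      = (S.LD g * S.s) * S.T (-S.e1) * S.s⁻¹ := by group
    _ = S.s * (S.LD g * S.T (-S.e1)) * S.s⁻¹ := by rw [hs]; group
    _ = S.s * S.T (-S.e1) * (S.LD g * S.s⁻¹) := by rw [hT]; group
    _ = _ := by rw [hs']; group

/-- The points of `P` that `r` carries into `P`. -/
noncomputable def K : Subgroup G := S.P.comap (MulAut.conj S.r⁻¹).toMonoidHom

theorem mem_K {x : G} : x ∈ S.K ↔ S.r⁻¹ * x * S.r ∈ S.P := by simp [K, mul_assoc]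

theorem K_of_B {x : G} (hx : x ∈ S.B) (h : act (S.φ x) S.e = S.e) : x ∈ S.K := by
  rw [mem_K]
  refine S.Ml_le_P (S.B_fix (mul_mem (mul_mem (inv_mem S.r_mem_B) hx) S.r_mem_B) ?_)
  rw [map_mul, map_mul, map_inv, act_mul, act_mul, S.r_act_e, act_add, h, S.B_fix_e1 hx]
  exact act_inv_eq S.r_act_e

theorem LD_mem_K {g : Sp F n} (hg : g ∈ Stab (S.j : ℕ)) (h : act g S.e1 = S.e1) : S.LD g ∈ S.K := by
  rw [mem_K, mul_assoc, S.LD_comm_r hg h, inv_mul_cancel_left]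
  exact S.D_le_P (S.LD_mem g)

theorem K_far {y : V F n} (hy : y ∈ W ((S.j : ℕ) + 1)) : S.T y ∈ S.K := by
  rcases eq_or_ne y 0 with rfl | hy0
  · rw [S.T_zero]; exact one_mem _
  have hn : (S.j : ℕ) + 1 < n := by
    by_contra hc
    exact hy0 (W_eq_zero (not_lt.1 hc) hy)
  set k : Fin n := ⟨(S.j : ℕ) + 1, hn⟩ with hk
  have hkW : (eb k : V F n) ∈ W ((S.j : ℕ) + 1) := eb_mem_W (by simp [hk])
  set u := 1 - S.a₀ with hu
  have hu0 : u ≠ 0 := sub_ne_zero.2 (Ne.symm S.a₀_ne_one)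
  obtain ⟨h, hh, he2⟩ := exists_move (u := -(u • eb k)) (Submodule.neg_mem _ (Submodule.smul_mem _ u hkW)) hy
    (fun h => by
      have := congrArg (fun v => om v (fb k)) h
      simp [hu0] at this) hy0
  have hhj : h ∈ Stab (S.j : ℕ) := Stab_anti (Nat.le_succ _) hh
  have hhe : act h S.e1 = S.e1 := (mem_Stab.1 hh S.j (Nat.lt_succ_self _)).1
  have hkj : (eb k : V F n) ∈ W (S.j : ℕ) := W_anti (Nat.le_succ _) hkW
  rw [← he2, ← S.conj_T hhj (neg_mem ((W _).smul_mem u hkj))]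
  refine mul_mem (mul_mem (S.LD_mem_K hhj hhe) ?_) (inv_mem (S.LD_mem_K hhj hhe))
  -- the commutator
  set c := S.T (u • S.f1) with hc
  have hjk : S.j ≠ k := fun h => by
    have := congrArg Fin.val h
    simp [hk] at this
  set yq := Q S.e1 (eb k) 0 with hyq
  have hyS : yq ∈ Stab (S.j : ℕ) := Q_mem_Stab S.e1_mem hkj (om_ee _ _) 0
  have hye : act yq S.e1 = S.e1 := Q_fix (om_ee _ _) 0 (om_ee _ _) (om_ee _ _)
  set Y := S.LD yq
  have hconj : Y * c⁻¹ * Y⁻¹ * c = S.T (-(u • eb k)) := by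
    have h1 : act yq S.f1 = S.f1 + eb k := by
      rw [hyq, act_Q (om_ee _ _), om_ef, om_ef_ne (Ne.symm hjk)]
      simp
    have hW1 : u • S.f1 ∈ W (S.j : ℕ) := (W _).smul_mem u S.f1_mem
    have hW2 : -(u • (S.f1 + eb k)) ∈ W (S.j : ℕ) := neg_mem ((W _).smul_mem u (add_mem S.f1_mem hkj))
    rw [hc, ← S.T_neg hW1, S.conj_T hyS (neg_mem hW1), act_neg, act_smul, h1, S.T_mul hW2 hW1,
      show -(u • (S.f1 + eb k)) + u • S.f1 = -(u • eb k) by rw [smul_add]; abel,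
      show om (-(u • (S.f1 + eb k))) (u • S.f1) = 0 by simp [om_ef_ne (Ne.symm hjk)],
      S.z_zero, mul_one]
  set d := S.w⁻¹ * S.hA S.a₀ * S.w
  have hd : d ∈ S.D := S.w_conj_A0 (S.hA_mem _)
  set p := S.T S.f1 * d * (S.T S.f1)⁻¹
  have hp : p ∈ S.P :=
    mul_mem (mul_mem (S.T_mem_P S.f1_mem) (S.D_le_P hd)) (inv_mem (S.T_mem_P S.f1_mem))
  have hcr : c * S.r = S.hA S.a₀ * S.r * p⁻¹ := by
    have hsum : c * (S.T S.f1)⁻¹ = S.T (-(S.a₀ • S.f1)) := by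
      rw [hc, ← S.T_neg S.f1_mem, S.T_mul ((W _).smul_mem u S.f1_mem) (neg_mem S.f1_mem),
        show u • S.f1 + -S.f1 = -(S.a₀ • S.f1) by rw [hu]; module,
        show om (u • S.f1) (-S.f1) = 0 by simp, S.z_zero, mul_one]
    rw [S.hA_r S.a₀_ne, ← hsum]
    conv_lhs => rw [S.r_eq_w]
    simp only [p, d]
    group
  rw [mem_K, ← hconj]
  have hYr : S.r⁻¹ * Y * S.r = Y := by
    rw [mul_assoc, S.LD_comm_r hyS hye, inv_mul_cancel_left]
  set k0 := S.r⁻¹ * (S.hA S.a₀)⁻¹ * S.r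
  have hkY : k0 * Y⁻¹ * k0⁻¹ = Y⁻¹ := by
    have h1 : S.r * Y⁻¹ * S.r⁻¹ = Y⁻¹ := by
      conv_lhs => rw [← hYr]
      group
    have h2 : (S.hA S.a₀)⁻¹ * Y⁻¹ * S.hA S.a₀ = Y⁻¹ := by
      rw [mul_assoc, (S.A0_comm_D (S.hA_mem S.a₀) (inv_mem (S.LD_mem yq))).symm, inv_mul_cancel_left]
    calc k0 * Y⁻¹ * k0⁻¹ = S.r⁻¹ * ((S.hA S.a₀)⁻¹ * (S.r * Y⁻¹ * S.r⁻¹) * S.hA S.a₀) * S.r := by
          simp only [k0]; group
      _ = S.r⁻¹ * Y⁻¹ * S.r := by rw [h1, h2]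
      _ = (S.r⁻¹ * Y * S.r)⁻¹ := by group
      _ = _ := by rw [hYr]
  have e1 : S.r⁻¹ * c⁻¹ * S.r = p * k0 := by
    have : (S.r⁻¹ * (c * S.r))⁻¹ = (S.r⁻¹ * (S.hA S.a₀ * S.r * p⁻¹))⁻¹ := by rw [hcr]
    calc S.r⁻¹ * c⁻¹ * S.r = (S.r⁻¹ * (c * S.r))⁻¹ := by group
      _ = _ := this
      _ = _ := by simp only [k0]; group
  have e2 : S.r⁻¹ * c * S.r = (p * k0)⁻¹ := by rw [← e1]; group
  have e : S.r⁻¹ * (Y * c⁻¹ * Y⁻¹ * c) * S.r = Y * p * Y⁻¹ * p⁻¹ := by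
    calc S.r⁻¹ * (Y * c⁻¹ * Y⁻¹ * c) * S.r
        = (S.r⁻¹ * Y * S.r) * (S.r⁻¹ * c⁻¹ * S.r) * (S.r⁻¹ * Y * S.r)⁻¹ * (S.r⁻¹ * c * S.r) := by
          group
      _ = Y * p * (k0 * Y⁻¹ * k0⁻¹) * p⁻¹ := by rw [hYr, e1, e2]; group
      _ = _ := by rw [hkY]
  rw [e]
  exact mul_mem (mul_mem (mul_mem (S.D_le_P (S.LD_mem _)) hp) (inv_mem (S.D_le_P (S.LD_mem _))))
    (inv_mem hp)

/-- The stabiliser of the middle point. -/
theorem stab_mid {q : G} (hq : q ∈ S.P) (h : act (S.φ q) (S.e + S.e1) = S.e + S.e1) :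
    q ∈ S.K := by
  obtain ⟨v, hv, c, g, hg, rfl⟩ := S.exists_Tzd hq
  set u := act g S.e1 with hu
  have huW : u ∈ W (S.j : ℕ) := Stab_map_W hg S.e1_mem
  have hsum : u + om v u • S.e = S.e1 := by
    rw [S.φ_Tzd hv c hg, act_mul, act_add, S.fix_e hg, act_add,
      Q_fix (S.om_e hv) c (om_ee _ _) (S.om_e' hv), add_right_inj, ← hu, act_Q (S.om_e hv),
      S.om_e huW] at h
    simpa using h
  have hvu : om v u = 0 := by
    have := congrArg (fun x => om x S.f) hsum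
    simpa [S.om_f' huW, S.om_f' S.e1_mem] using this
  rw [hvu, zero_smul, add_zero] at hsum
  rw [hsum] at hvu
  obtain ⟨y, hy⟩ : ∃ y, y = v - om v S.f1 • S.e1 := ⟨_, rfl⟩
  have hyW : y ∈ W ((S.j : ℕ) + 1) := by
    have := W_split (k := S.j) rfl hv
    rwa [show om S.e1 v = 0 by rw [om_swap, hvu, neg_zero], zero_smul, sub_zero, ← hy] at this
  have hv' : S.T v = S.T (om v S.f1 • S.e1) * S.T y := by
    rw [S.T_mul ((W _).smul_mem _ S.e1_mem) (W_anti (Nat.le_succ _) hyW),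
      show om (om v S.f1 • S.e1) y = 0 by
        rw [map_smul, LinearMap.smul_apply, (hyW S.j (Nat.lt_succ_self _)).1, smul_zero],
      S.z_zero, mul_one, hy]
    congr 1
    abel
  rw [hv']
  refine mul_mem (mul_mem (mul_mem (S.K_of_B (S.T_smul_mem_B _) (S.T_act_e ?_)) (S.K_far hyW))
    (S.K_of_B (S.mem_B_of_A0 (S.z_mem c)) ?_)) (S.LD_mem_K hg hsum)
  · exact (W _).smul_mem _ S.e1_mem
  · rw [S.φ_z]; exact Q_fix (map_zero _) c (om_ee _ _) (by simp)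

/-- The union of the cells. -/
def InX (x : G) : Prop :=
  (∃ p ∈ S.P, ∃ a ∈ S.A0, ∃ p' ∈ S.P, x = p * a * p') ∨
    ∃ p ∈ S.P, ∃ p' ∈ S.P, x = p * S.r * p'

theorem InX.left {S : Step G F n} {x p : G} (hp : p ∈ S.P) (h : S.InX x) : S.InX (p * x) := by
  rcases h with ⟨p₁, h1, a, ha, p', h2, rfl⟩ | ⟨p₁, h1, p', h2, rfl⟩
  · exact Or.inl ⟨p * p₁, mul_mem hp h1, a, ha, p', h2, by group⟩
  · exact Or.inr ⟨p * p₁, mul_mem hp h1, p', h2, by group⟩

theorem InX.right {S : Step G F n} {x p : G} (hp : p ∈ S.P) (h : S.InX x) : S.InX (x * p) := by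
  rcases h with ⟨p₁, h1, a, ha, p', h2, rfl⟩ | ⟨p₁, h1, p', h2, rfl⟩
  · exact Or.inl ⟨p₁, h1, a, ha, p' * p, mul_mem h2 hp, by group⟩
  · exact Or.inr ⟨p₁, h1, p' * p, mul_mem h2 hp, by group⟩

theorem InX_A0 {a : G} (ha : a ∈ S.A0) : S.InX a :=
  Or.inl ⟨1, one_mem _, a, ha, 1, one_mem _, by group⟩

theorem InX_r : S.InX S.r := Or.inr ⟨1, one_mem _, 1, one_mem _, by group⟩

theorem InX_w : S.InX S.w := (S.InX_r.left (S.T_mem_P S.f1_mem)).right (S.T_mem_P S.f1_mem)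

theorem InX_hA_r {a : F} (ha : a ≠ 0) : S.InX (S.hA a * S.r) := by
  rw [S.hA_r ha]
  exact ((S.InX_w.left (S.T_mem_P (neg_mem ((W _).smul_mem a S.f1_mem)))).right
    (S.D_le_P (S.w_conj_A0 (S.hA_mem a)))).right (inv_mem (S.T_mem_P S.f1_mem))

theorem P_om {q : G} (hq : q ∈ S.P) (x : V F n) : om S.e (act (S.φ q) x) = om S.e x := by
  conv_lhs => rw [← S.φ_P_fix_e hq]
  rw [om_act]

theorem P_fix_smul {q : G} (hq : q ∈ S.P) (α : F) : act (S.φ q) (α • S.e) = α • S.e := by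
  rw [act_smul, S.φ_P_fix_e hq]

/-- Cosets in the union of the cells are determined by the point. -/
theorem coset {x y : G} (hx : S.InX x) (hy : S.InX y)
    (h : act (S.φ x) S.e = act (S.φ y) S.e) : x⁻¹ * y ∈ S.P := by
  have hr : ∀ p ∈ S.P, ∀ p' ∈ S.P, ∀ a ∈ S.A0, act (S.φ p) (act (S.φ a) S.e) ≠
      act (S.φ p') (S.e + S.e1) := by
    intro p hp p' hp' a ha heq
    obtain ⟨α, β, hab, hne⟩ := S.A0_plane ha
    have h1 := congrArg (om S.e) heq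
    rw [S.P_om hp, S.P_om hp', hab] at h1
    simp [S.om_e S.e1_mem] at h1
    subst h1
    rw [zero_smul, add_zero] at hab
    rw [hab, S.P_fix_smul hp] at heq
    have h2 := congrArg (act (S.φ p')⁻¹) heq
    rw [act_inv_act, act_smul, act_inv_eq (S.φ_P_fix_e hp')] at h2
    have h3 := congrArg (fun v => om v S.f1) h2
    simp [om_ef_ne S.i_ne_j] at h3
  rcases hx with ⟨p, hp, a, ha, p₁, hp₁, rfl⟩ | ⟨p, hp, p₁, hp₁, rfl⟩ <;>
    rcases hy with ⟨p', hp', a', ha', p₂, hp₂, rfl⟩ | ⟨p', hp', p₂, hp₂, rfl⟩ <;>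
    simp only [map_mul, act_mul, S.φ_P_fix_e hp₁, S.φ_P_fix_e hp₂, S.r_act_e] at h
  · set q := p'⁻¹ * p with hq
    have hqP : q ∈ S.P := mul_mem (inv_mem hp') hp
    have hqa : act (S.φ q) (act (S.φ a) S.e) = act (S.φ a') S.e := by
      rw [hq, map_mul, map_inv, act_mul, h, act_inv_act]
    rw [show (p * a * p₁)⁻¹ * (p' * a' * p₂) = p₁⁻¹ * (a'⁻¹ * q * a)⁻¹ * p₂ by rw [hq]; group]
    refine mul_mem (mul_mem (inv_mem hp₁) (inv_mem ?_)) hp₂
    obtain ⟨α, β, hab, hne⟩ := S.A0_plane ha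
    obtain ⟨α', β', hab', hne'⟩ := S.A0_plane ha'
    have hβ : β = β' := by
      have := congrArg (om S.e) hqa
      rw [S.P_om hqP, hab, hab'] at this
      simpa using this
    subst hβ
    rcases eq_or_ne β 0 with rfl | hβ
    · rw [zero_smul, add_zero] at hab hab'
      rw [hab, S.P_fix_smul hqP, hab'] at hqa
      have hαα : α = α' := by
        have := congrArg (fun v => om v S.f) hqa
        simpa using this
      subst hαα
      obtain ⟨c, rfl⟩ := S.A0_low ha (hne rfl) hab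
      obtain ⟨c', rfl⟩ := S.A0_low ha' (hne rfl) hab'
      have hcP : (S.hA α)⁻¹ * q * S.hA α ∈ S.P := by
        have hinv : (S.hA α)⁻¹ = S.hA α⁻¹ := by
          refine S.pair_S _ (inv_mem (S.hA_mem _)) (S.hA_mem _) ?_
          rw [map_inv, S.φ_hA (hne rfl), S.φ_hA (inv_ne_zero (hne rfl)), inv_inv]
          refine inv_eq_of_mul_eq_one_right (ext_basis (fun k => ?_) (fun k => ?_)) <;>
            rw [act_mul, act_one] <;> rcases eq_or_ne k S.i with rfl | hk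
          · rw [plane_eb (by simpa using hA_det (inv_ne_zero (hne rfl))), act_add, act_smul,
              act_smul, plane_eb (hA_det (hne rfl))]
            simp [smul_smul, hne rfl]
          · rw [(mem_Sgp.1 (plane_mem_Sgp (by simpa using hA_det (inv_ne_zero (hne rfl)))) k hk).1,
              (mem_Sgp.1 (plane_mem_Sgp (hA_det (hne rfl))) k hk).1]
          · rw [plane_fb (by simpa using hA_det (inv_ne_zero (hne rfl))), act_add, act_smul,
              act_smul, plane_fb (hA_det (hne rfl))]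
            simp [smul_smul, hne rfl]
          · rw [(mem_Sgp.1 (plane_mem_Sgp (by simpa using hA_det (inv_ne_zero (hne rfl)))) k hk).2,
              (mem_Sgp.1 (plane_mem_Sgp (hA_det (hne rfl))) k hk).2]
        have := S.hA_conj_P (inv_ne_zero (hne rfl)) hqP
        rwa [← hinv, inv_inv] at this
      rw [show (S.hA α * S.z c')⁻¹ * q * (S.hA α * S.z c) =
        (S.z c')⁻¹ * ((S.hA α)⁻¹ * q * S.hA α) * S.z c by group]
      exact mul_mem (mul_mem (inv_mem (S.z_mem_P _)) hcP) (S.z_mem_P _)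
    · obtain ⟨c, c₁, rfl⟩ := S.A0_high ha hβ hab
      obtain ⟨c', c₂, rfl⟩ := S.A0_high ha' hβ hab'
      set q' := (S.z c')⁻¹ * q * S.z c with hq'
      have hq'P : q' ∈ S.P := mul_mem (mul_mem (inv_mem (S.z_mem_P _)) hqP) (S.z_mem_P _)
      have hf : act (S.φ q') S.f = S.f := by
        have hze : ∀ c, act (S.φ (S.z c)) S.e = S.e := fun c => S.φ_P_fix_e (S.z_mem_P c)
        simp only [map_mul, act_mul, hze, S.rb_act hβ, act_smul] at hqa
        have h2 : act (S.φ q) (act (S.φ (S.z c)) S.f) = act (S.φ (S.z c')) S.f :=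
          smul_right_injective _ hβ hqa
        rw [hq', map_mul, map_mul, map_inv, act_mul, act_mul, h2, act_inv_act]
      obtain ⟨v, hv, d, g, hg, hqe⟩ := S.exists_Tzd hq'P
      rw [hqe, S.φ_Tzd hv d hg, act_mul, S.fix_f hg, act_Q (S.om_e hv), om_ef, S.om_f' hv,
        one_smul, zero_smul, add_zero, mul_one, add_assoc, add_eq_left] at hf
      have hd : d = 0 := by
        have := congrArg (fun x => om x S.f) hf
        simpa [S.om_f' hv] using this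
      subst hd
      rw [zero_smul, add_zero] at hf
      subst hf
      rw [S.T_zero, S.z_zero, one_mul, one_mul] at hqe
      rw [show (S.z c' * S.rb β * S.z c₂)⁻¹ * q * (S.z c * S.rb β * S.z c₁) =
        (S.z c₂)⁻¹ * ((S.rb β)⁻¹ * (q' * S.rb β)) * S.z c₁ by rw [hq']; group, hqe,
        ← S.A0_comm_D (S.rb_mem β) (S.LD_mem g), inv_mul_cancel_left]
      exact mul_mem (mul_mem (inv_mem (S.z_mem_P _)) (S.D_le_P (S.LD_mem g))) (S.z_mem_P _)
  · exact absurd h (hr p hp p' hp' a ha)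
  · exact absurd h.symm (hr p' hp' p hp a' ha')
  · set q := p'⁻¹ * p with hq
    have hqP : q ∈ S.P := mul_mem (inv_mem hp') hp
    have hqa : act (S.φ q) (S.e + S.e1) = S.e + S.e1 := by
      rw [hq, map_mul, map_inv, act_mul, h, act_inv_act]
    rw [show (p * S.r * p₁)⁻¹ * (p' * S.r * p₂) = p₁⁻¹ * (S.r⁻¹ * q * S.r)⁻¹ * p₂ by
      rw [hq]; group]
    exact mul_mem (mul_mem (inv_mem hp₁) (inv_mem (S.mem_K.1 (S.stab_mid hqP hqa)))) hp₂

theorem B_exists (a b γ : F) (h : b = 0 → a ≠ 0) :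
    ∃ y ∈ S.B, S.InX y ∧ act (S.φ y) S.e = a • S.e + b • S.f + γ • S.e1 := by
  rcases eq_or_ne b 0 with rfl | hb
  · rcases eq_or_ne γ 0 with rfl | hγ
    · exact ⟨S.hA a, S.mem_B_of_A0 (S.hA_mem a), S.InX_A0 (S.hA_mem a),
        by rw [S.hA_act (h rfl)]; simp⟩
    refine ⟨S.hA a * S.T' ((-γ) • S.e1),
      mul_mem (S.mem_B_of_A0 (S.hA_mem a)) (S.T'_smul_mem_B _), ?_, ?_⟩
    · have d := hA_det hγ
      set g := plane S.j γ 0 0 γ⁻¹
      have hg : g ∈ Stab (S.j : ℕ) := S.Sgp_j_le (plane_mem_Sgp d)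
      have hge : act g (-S.e1) = (-γ) • S.e1 := by
        rw [act_neg, plane_eb d]; simp [neg_smul]
      have e : S.T' ((-γ) • S.e1) = S.LD g * S.r * (S.LD g)⁻¹ := by
        have hc := S.conj_T hg (neg_mem S.e1_mem)
        rw [hge] at hc
        have hs : S.LD g * S.s * (S.LD g)⁻¹ = S.s := by
          rw [← S.A0_comm_D S.s_mem (S.LD_mem g), mul_inv_cancel_right]
        calc S.T' ((-γ) • S.e1) = (S.LD g * S.s * (S.LD g)⁻¹) *
              (S.LD g * S.T (-S.e1) * (S.LD g)⁻¹) * (S.LD g * S.s * (S.LD g)⁻¹)⁻¹ := by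
              rw [hc, hs]; rfl
          _ = _ := by rw [r, T']; group
      rw [e, show S.hA a * (S.LD g * S.r * (S.LD g)⁻¹) = (S.hA a * S.LD g) * S.r * (S.LD g)⁻¹ by
        group, S.A0_comm_D (S.hA_mem a) (S.LD_mem g), mul_assoc (S.LD g)]
      exact ((S.InX_hA_r (h rfl)).left (S.D_le_P (S.LD_mem g))).right
        (inv_mem (S.D_le_P (S.LD_mem g)))
    · have hW : (-γ) • S.e1 ∈ W (S.j : ℕ) := (W _).smul_mem _ S.e1_mem
      rw [map_mul, act_mul, S.φ_T' hW, act_Q (S.om_f hW), om_fe, S.om_e' hW]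
      simp [S.hA_act (h rfl), S.A0_fix_W (S.hA_mem a) S.e1_mem, act_add, act_smul]
  · have hW : (γ / b) • S.e1 ∈ W (S.j : ℕ) := (W _).smul_mem _ S.e1_mem
    refine ⟨S.T ((γ / b) • S.e1) * S.z (a / b) * S.rb b,
      mul_mem (mul_mem (S.T_smul_mem_B _) (S.mem_B_of_A0 (S.z_mem _))) (S.mem_B_of_A0 (S.rb_mem b)),
      (S.InX_A0 (S.rb_mem b)).left (mul_mem (S.T_mem_P hW) (S.z_mem_P _)), ?_⟩
    rw [map_mul, map_mul, act_mul, S.rb_act hb, act_smul, S.φ_T hW, S.φ_z,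
      Q_mul (S.om_e hW) (map_zero _), add_zero, act_Q (S.om_e hW), om_ef, S.om_f' hW]
    simp only [map_zero, add_zero, zero_add, zero_smul, one_smul, mul_one]
    match_scalars <;> field_simp

theorem B_le_X {x : G} (hx : x ∈ S.B) : S.InX x := by
  set u := act (S.φ x) S.e with hu
  have huW : u = om u S.f • S.e + om S.e u • S.f + om u S.f1 • S.e1 := by
    refine vec_ext (fun k => ?_) (fun k => ?_) <;>
      rcases eq_or_ne k S.i with rfl | hk
    · simp [om_swap u (eb S.i), om_ef_ne, om_fe_ne]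
    · have : om u (eb k) = 0 := by
        rw [hu, ← (S.φ_B hx).1 k hk, om_act]; simp
      simp [this, om_fe_ne (Ne.symm hk)]
    · simp [om_ef_ne (Ne.symm S.i_ne_j)]
    · rcases eq_or_ne k S.j with rfl | hkj
      · simp [om_ef_ne S.i_ne_j]
      · have : om u (fb k) = 0 := by
          rw [hu, ← (S.φ_B hx).2 k hk hkj, om_act]; exact om_ef_ne (Ne.symm hk)
        simp [this, om_ef_ne (Ne.symm hk), om_ef_ne (Ne.symm hkj)]
  have hne : om S.e u = 0 → om u S.f ≠ 0 := by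
    intro h1 h2
    rw [h1, h2, zero_smul, zero_smul, zero_add, zero_add] at huW
    have hfix : act (S.φ x) (om u S.f1 • S.e1) = om u S.f1 • S.e1 := by
      rw [act_smul, S.B_fix_e1 hx]
    have h3 := act_inv_eq hfix
    rw [← huW, hu, act_inv_act, ← hu] at h3
    have := congrArg (fun v => om v S.f) h3
    simp [h2] at this
  obtain ⟨y, hyB, hyX, hye⟩ := S.B_exists _ _ (om u S.f1) hne
  have h := S.B_coset hyB hx (by rw [hye, ← huW])
  have := hyX.right h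
  rwa [mul_inv_cancel_left] at this

theorem BV_le_X {g : Sp F n} {x : G} (hx : x ∈ S.BV g) : S.InX x := by
  rw [mem_BV] at hx
  have := ((S.B_le_X hx).left (S.D_le_P (S.LD_mem g))).right (inv_mem (S.D_le_P (S.LD_mem g)))
  convert this using 1
  group

/-- Every point is reached inside a moved pair, or by the exchange. -/
theorem reach {u : V F n} (hu : u ∈ W (S.i : ℕ)) (hu0 : u ≠ 0) :
    (∃ g ∈ Stab (S.j : ℕ), ∃ y ∈ S.BV g, act (S.φ y) S.e = u) ∨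
      ∃ g ∈ Stab (S.j : ℕ), act (S.φ (S.LD g * S.w)) S.e = u := by
  obtain ⟨v, hv⟩ : ∃ v, v = u - om u S.f • S.e - om S.e u • S.f := ⟨_, rfl⟩
  have hvW : v ∈ W (S.j : ℕ) := by
    have := W_split (k := S.i) rfl hu
    rwa [S.hij, ← hv] at this
  by_cases hab : om u S.f = 0 ∧ om S.e u = 0
  · rw [hab.1, hab.2, zero_smul, zero_smul, sub_zero, sub_zero] at hv
    subst hv
    obtain ⟨g, hg, hgu⟩ := exists_move S.e1_mem hvW S.e1_ne hu0
    exact Or.inr ⟨g, hg, by rw [map_mul, act_mul, S.w_e, S.φ_LD hg, hgu]⟩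
  · refine Or.inl ?_
    obtain ⟨g, hg, γ, hgv⟩ : ∃ g ∈ Stab (S.j : ℕ), ∃ γ : F, act g (γ • S.e1) = v := by
      rcases eq_or_ne v 0 with rfl | hv0
      · exact ⟨1, one_mem _, 0, by simp [act_zero]⟩
      · obtain ⟨g, hg, h⟩ := exists_move S.e1_mem hvW S.e1_ne hv0
        exact ⟨g, hg, 1, by rw [one_smul, h]⟩
    obtain ⟨y, hyB, -, hye⟩ := S.B_exists (om u S.f) (om S.e u) γ
      fun h h' => hab ⟨h', h⟩
    refine ⟨g, hg, S.LD g * y * (S.LD g)⁻¹, ?_, ?_⟩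
    · rw [mem_BV]
      convert hyB using 1
      group
    · rw [map_mul, map_mul, map_inv, act_mul, act_mul, S.φ_LD hg,
        act_inv_eq (S.fix_e hg), hye, act_add, act_add, act_smul, act_smul, S.fix_e hg,
        S.fix_f hg, hgv, hv]
      abel

theorem P_le_Gn : S.P ≤ S.Gn S.i := by
  rw [P, Subgroup.closure_le]
  rintro x ((⟨v, hv, rfl⟩ | ⟨c, rfl⟩) | hd)
  · rcases eq_or_ne v 0 with rfl | h0
    · rw [S.T_zero]; exact one_mem _
    · obtain ⟨g, hg, h⟩ := exists_move S.e1_mem hv S.e1_ne h0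
      rw [S.T_eq hg h]
      exact mul_mem (mul_mem (S.D_le_Gn (S.LD_mem g)) (S.Ml_le_Gn le_rfl S.hi (S.t1_mem 1 0)))
        (inv_mem (S.D_le_Gn (S.LD_mem g)))
  · exact S.Sl_le_Gn le_rfl (S.z_mem c)
  · exact S.D_le_Gn hd

theorem B_le_Gn : S.B ≤ S.Gn S.i :=
  sup_le (S.Ml_le_Gn le_rfl S.hi) (S.Sl_le_Gn le_rfl)

theorem w_mem_Gn : S.w ∈ S.Gn S.i :=
  mul_mem (mul_mem (S.P_le_Gn (S.T_mem_P S.f1_mem)) (S.B_le_Gn S.r_mem_B))
    (S.P_le_Gn (S.T_mem_P S.f1_mem))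

theorem InX_mem_Gn {x : G} (hx : S.InX x) : x ∈ S.Gn S.i := by
  rcases hx with ⟨p, hp, a, ha, p', hp', rfl⟩ | ⟨p, hp, p', hp', rfl⟩
  · exact mul_mem (mul_mem (S.P_le_Gn hp) (S.Sl_le_Gn le_rfl ha)) (S.P_le_Gn hp')
  · exact mul_mem (mul_mem (S.P_le_Gn hp) (S.B_le_Gn S.r_mem_B)) (S.P_le_Gn hp')

theorem A0_left {a x : G} (ha : a ∈ S.A0) (hx : S.InX x) : S.InX (a * x) := by
  have hu : act (S.φ x) S.e ∈ W (S.i : ℕ) :=
    Stab_map_W (S.φ_Gn (S.InX_mem_Gn hx)) (eb_mem_W le_rfl)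
  rcases S.reach hu (act_ne_zero _ S.e_ne) with ⟨g, hg, y, hy, hye⟩ | ⟨g, hg, hye⟩
  · have h := S.coset (S.BV_le_X hy) hx hye
    have := (S.BV_le_X (mul_mem (S.A0_mem_BV ha g) hy)).right h
    rwa [show a * y * (y⁻¹ * x) = a * x by group] at this
  · have hy : S.InX (S.LD g * S.w) := S.InX_w.left (S.D_le_P (S.LD_mem g))
    have h := S.coset hy hx hye
    have := (hy.right (S.D_le_P (S.w_conj_A0 ha))).right h
    convert this using 1
    calc a * x = (a * S.LD g) * (S.LD g)⁻¹ * x := by group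
      _ = (S.LD g * a) * (S.LD g)⁻¹ * x := by rw [S.A0_comm_D ha (S.LD_mem g)]
      _ = _ := by group

/-- The subgroup that preserves the union of the cells. -/
def Pres : Subgroup G where
  carrier := {g | ∀ x, S.InX (g * x) ↔ S.InX x}
  one_mem' := fun x => by rw [one_mul]
  mul_mem' := fun {g h} hg hh x => by rw [mul_assoc, hg, hh]
  inv_mem' := fun {g} hg x => by rw [← hg (g⁻¹ * x), mul_inv_cancel_left]

theorem InX_of_mem {x : G} (hx : x ∈ S.Gn S.i) : S.InX x := by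
  have hle : ∀ H : Subgroup G, (∀ g ∈ H, ∀ y, S.InX y → S.InX (g * y)) → H ≤ S.Pres := by
    intro H h g hg y
    refine ⟨fun hy => ?_, h g hg y⟩
    have := h g⁻¹ (inv_mem hg) _ hy
    rwa [inv_mul_cancel_left] at this
  have hP : S.P ≤ S.Pres := hle _ fun g hg y hy => hy.left hg
  have hA : S.A0 ≤ S.Pres := hle _ fun g hg y hy => S.A0_left hg hy
  have hall : S.Gn S.i ≤ S.Pres := by
    refine S.Gn_le (fun l hl => ?_) fun l hl hl' => ?_
    · rcases eq_or_ne l S.i with rfl | hne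
      · exact hA
      · exact (S.Sl_le_Gn (by
          have := S.hij
          have : (l : ℕ) ≠ S.i := fun h => hne (Fin.ext h)
          omega)).trans (S.D_le_P.trans hP)
    · rcases eq_or_ne l S.i with rfl | hne
      · exact S.Ml_le_P.trans hP
      · exact (S.Ml_le_Gn (by
          have := S.hij
          have : (l : ℕ) ≠ S.i := fun h => hne (Fin.ext h)
          omega) hl').trans (S.D_le_P.trans hP)
  have := (hall hx 1).2 (S.InX_A0 (one_mem _))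
  rwa [mul_one] at this

/-- The inductive step. -/
theorem faithful : S.Faithful S.i := by
  refine ⟨?_, le_antisymm (S.map_Gn_le _) fun g hg => ?_⟩
  · have key : ∀ x ∈ S.Gn S.i, S.φ x = 1 → x = 1 := by
      intro x hx h1
      have h := S.coset (S.InX_A0 (one_mem _)) (S.InX_of_mem hx) (by rw [h1, map_one])
      rw [inv_one, one_mul] at h
      exact S.eq_of_P h (one_mem _) (by rw [h1, map_one])
    intro x hx y hy hxy
    exact mul_inv_eq_one.1 (key _ (mul_mem hx (inv_mem hy))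
      (by rw [map_mul, map_inv, hxy, mul_inv_cancel]))
  · have hu : act g S.e ∈ W (S.i : ℕ) := Stab_map_W hg (eb_mem_W le_rfl)
    obtain ⟨y, hy, hye⟩ : ∃ y ∈ S.Gn S.i, act (S.φ y) S.e = act g S.e := by
      rcases S.reach hu (act_ne_zero _ S.e_ne) with ⟨k, hk, y, hy, hye⟩ | ⟨k, hk, hye⟩
      · exact ⟨y, S.InX_mem_Gn (S.BV_le_X hy), hye⟩
      · exact ⟨_, mul_mem (S.D_le_Gn (S.LD_mem k)) S.w_mem_Gn, hye⟩
    obtain ⟨p, hp, hpe⟩ := S.P_surj (g := (S.φ y)⁻¹ * g)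
      (mul_mem (inv_mem (S.φ_Gn hy)) hg) (by rw [act_mul, ← hye, act_inv_act])
    exact ⟨y * p, mul_mem hy (S.P_le_Gn hp), by rw [map_mul, hpe, mul_inv_cancel_left]⟩

end Step

end CfsgLib.SpSlim
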