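import Cfsg.Agent.SpSlim.Basic

/-!
# The slim amalgam and lifts into it

An amalgam is a group `G` over `Sp`, with subgroups over the planes and the edges, such that the
projection is injective on the join of any two of them.
-/

set_option autoImplicit false
set_option linter.unusedVariables false

namespace CfsgLib.SpSlim

open Matrix

/-- The amalgam. -/
structure Amal (G : Type*) [Group G] (F : Type*) [Field F] (n : ℕ) where
  φ : G →* Sp F n
  Sl : Fin n → Subgroup G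
  Ml : Fin n → Subgroup G
  map_S : ∀ j, (Sl j).map φ = Sgp j
  map_M : ∀ i : Fin n, (i : ℕ) + 1 < n → (Ml i).map φ = Mgp i
  pair_S : ∀ j, Set.InjOn φ ↑(Sl j)
  pair_SS : ∀ j l, j ≠ l → Set.InjOn φ ↑(Sl j ⊔ Sl l)
  pair_MS : ∀ i j : Fin n, (i : ℕ) + 1 < n → Set.InjOn φ ↑(Ml i ⊔ Sl j)
  pair_MM : ∀ i i' : Fin n, i ≠ i' → (i : ℕ) + 1 < n → (i' : ℕ) + 1 < n →
    Set.InjOn φ ↑(Ml i ⊔ Ml i')

namespace Amal

variable {G : Type*} [Group G] {F : Type*} [Field F] {n : ℕ} (A : Amal G F n)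

/-- The part above `m`. -/
def Gn (m : ℕ) : Subgroup G :=
  (⨆ (j : Fin n) (_ : m ≤ (j : ℕ)), A.Sl j) ⊔
    ⨆ (i : Fin n) (_ : m ≤ (i : ℕ) ∧ (i : ℕ) + 1 < n), A.Ml i

/-- The projection is an isomorphism above `m`. -/
def Faithful (m : ℕ) : Prop := Set.InjOn A.φ ↑(A.Gn m) ∧ (A.Gn m).map A.φ = Stab m

theorem Sl_le_Gn {m : ℕ} {j : Fin n} (h : m ≤ (j : ℕ)) : A.Sl j ≤ A.Gn m :=
  le_sup_of_le_left (le_iSup₂_of_le j h le_rfl)

theorem Ml_le_Gn {m : ℕ} {i : Fin n} (h : m ≤ (i : ℕ)) (h' : (i : ℕ) + 1 < n) :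
    A.Ml i ≤ A.Gn m :=
  le_sup_of_le_right (le_iSup₂_of_le i ⟨h, h'⟩ le_rfl)

theorem Gn_le {m : ℕ} {H : Subgroup G} (hS : ∀ j : Fin n, m ≤ (j : ℕ) → A.Sl j ≤ H)
    (hM : ∀ i : Fin n, m ≤ (i : ℕ) → (i : ℕ) + 1 < n → A.Ml i ≤ H) : A.Gn m ≤ H :=
  sup_le (iSup₂_le hS) (iSup₂_le fun i h => hM i h.1 h.2)

theorem Gn_anti {m m' : ℕ} (h : m ≤ m') : A.Gn m' ≤ A.Gn m :=
  A.Gn_le (fun j hj => A.Sl_le_Gn (h.trans hj)) fun i hi hi' => A.Ml_le_Gn (h.trans hi) hi'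

theorem φ_Sl {j : Fin n} {x : G} (h : x ∈ A.Sl j) : A.φ x ∈ Sgp j :=
  A.map_S j ▸ Subgroup.mem_map_of_mem _ h

theorem φ_Ml {i : Fin n} (hi : (i : ℕ) + 1 < n) {x : G} (h : x ∈ A.Ml i) : A.φ x ∈ Mgp i :=
  A.map_M i hi ▸ Subgroup.mem_map_of_mem _ h

theorem map_Gn_le (m : ℕ) : (A.Gn m).map A.φ ≤ Stab m := by
  rw [Subgroup.map_le_iff_le_comap]
  exact A.Gn_le (fun j hj x hx => Sgp_le_Stab hj (A.φ_Sl hx))
    fun i hi hi' x hx => Mgp_le_Stab hi (A.φ_Ml hi' hx)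

theorem φ_Gn {m : ℕ} {x : G} (h : x ∈ A.Gn m) : A.φ x ∈ Stab m :=
  A.map_Gn_le m (Subgroup.mem_map_of_mem _ h)

open scoped Classical in
/-- A chosen preimage in a subgroup. -/
noncomputable def liftIn (H : Subgroup G) (x : Sp F n) : G :=
  if h : x ∈ H.map A.φ then (Subgroup.mem_map.1 h).choose else 1

theorem liftIn_mem (H : Subgroup G) (x : Sp F n) : A.liftIn H x ∈ H := by
  unfold liftIn
  split_ifs with h
  exacts [(Subgroup.mem_map.1 h).choose_spec.1, one_mem _]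

theorem φ_liftIn {H : Subgroup G} {x : Sp F n} (h : x ∈ H.map A.φ) : A.φ (A.liftIn H x) = x := by
  unfold liftIn
  rw [dif_pos h]
  exact (Subgroup.mem_map.1 h).choose_spec.2

/-- Elements of a faithful join with commuting images commute. -/
theorem commute_of_injOn {H : Subgroup G} (hH : Set.InjOn A.φ ↑H) {a b : G} (ha : a ∈ H)
    (hb : b ∈ H) (h : A.φ a * A.φ b = A.φ b * A.φ a) : a * b = b * a :=
  hH (mul_mem ha hb) (mul_mem hb ha) (by rw [map_mul, map_mul, h])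

end Amal

/-- The setting of one inductive step: the theorem holds above `j`, and `i` precedes `j`. -/
structure Step (G : Type*) [Group G] (F : Type*) [Field F] (n : ℕ) extends Amal G F n where
  i : Fin n
  j : Fin n
  hij : (i : ℕ) + 1 = j
  ih : toAmal.Faithful j
  ih_next : (toAmal.Gn ((j : ℕ) + 1)).map φ = Stab ((j : ℕ) + 1)
  a₀ : F
  a₀_ne : a₀ ≠ 0
  a₀_ne_one : a₀ ≠ 1

namespace Step

variable {G : Type*} [Group G] {F : Type*} [Field F] {n : ℕ} (S : Step G F n)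

theorem hi : (S.i : ℕ) + 1 < n := by rw [S.hij]; exact S.j.isLt

theorem i_ne_j : S.i ≠ S.j := fun h => by
  have := S.hij
  rw [h] at this
  omega

/-- The first basis vectors of the step. -/
abbrev e : V F n := eb S.i
/-- The partner of `e`. -/
abbrev f : V F n := fb S.i
/-- The next basis vector. -/
abbrev e1 : V F n := eb S.j
/-- The partner of `e1`. -/
abbrev f1 : V F n := fb S.j

/-- The part above `j`. -/
abbrev D : Subgroup G := S.Gn S.j

/-- The plane group at `i`. -/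
abbrev A0 : Subgroup G := S.Sl S.i

/-- The faithful pair. -/
abbrev B : Subgroup G := S.Ml S.i ⊔ S.Sl S.i

/-- The other faithful pair. -/
abbrev B1 : Subgroup G := S.Ml S.i ⊔ S.Sl S.j

/-- The lift into the part above `j`. -/
noncomputable def LD (x : Sp F n) : G := S.liftIn S.D x

theorem LD_mem (x : Sp F n) : S.LD x ∈ S.D := S.liftIn_mem _ _

theorem φ_LD {x : Sp F n} (h : x ∈ Stab (S.j : ℕ)) : S.φ (S.LD x) = x :=
  S.φ_liftIn (by rw [S.ih.2]; exact h)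

theorem eq_LD {a : G} (ha : a ∈ S.D) : a = S.LD (S.φ a) :=
  S.ih.1 ha (S.LD_mem _) (S.φ_LD (S.φ_Gn ha)).symm

theorem LD_mul {x y : Sp F n} (hx : x ∈ Stab (S.j : ℕ)) (hy : y ∈ Stab (S.j : ℕ)) :
    S.LD (x * y) = S.LD x * S.LD y := by
  rw [S.eq_LD (mul_mem (S.LD_mem x) (S.LD_mem y)), map_mul, S.φ_LD hx, S.φ_LD hy]

theorem LD_one : S.LD 1 = 1 := by rw [S.eq_LD (one_mem S.D), map_one]

theorem LD_inv {x : Sp F n} (hx : x ∈ Stab (S.j : ℕ)) : S.LD x⁻¹ = (S.LD x)⁻¹ := by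
  rw [S.eq_LD (inv_mem (S.LD_mem x)), map_inv, S.φ_LD hx]

/-- The lift into the plane group at `i`. -/
noncomputable def LA (x : Sp F n) : G := S.liftIn S.A0 x

theorem LA_mem (x : Sp F n) : S.LA x ∈ S.A0 := S.liftIn_mem _ _

theorem φ_LA {x : Sp F n} (h : x ∈ Sgp S.i) : S.φ (S.LA x) = x :=
  S.φ_liftIn (by rw [S.map_S]; exact h)

/-- The lift into the edge group. -/
noncomputable def LM (x : Sp F n) : G := S.liftIn (S.Ml S.i) x

theorem LM_mem (x : Sp F n) : S.LM x ∈ S.Ml S.i := S.liftIn_mem _ _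

theorem φ_LM {x : Sp F n} (h : x ∈ Mgp S.i) : S.φ (S.LM x) = x :=
  S.φ_liftIn (by rw [S.map_M _ S.hi]; exact h)

theorem B_inj : Set.InjOn S.φ ↑S.B := S.pair_MS _ _ S.hi

theorem B1_inj : Set.InjOn S.φ ↑S.B1 := S.pair_MS _ _ S.hi

theorem D_le_Gn : S.D ≤ S.Gn S.i := S.Gn_anti (by have := S.hij; omega)

theorem LD_mem_Sl {x : Sp F n} (h : x ∈ Sgp S.j) : S.LD x ∈ S.Sl S.j := by
  rw [← S.φ_liftIn (H := S.Sl S.j) (x := x) (by rw [S.map_S]; exact h),
    ← S.eq_LD (S.Sl_le_Gn le_rfl (S.liftIn_mem _ _))]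
  exact S.liftIn_mem _ _

/-- Elements over the plane at `i` commute with the part above. -/
theorem A0_comm_D {a d : G} (ha : a ∈ S.A0) (hd : d ∈ S.D) : a * d = d * a := by
  have hlt : (S.i : ℕ) < S.j := by have := S.hij; omega
  have h : S.D ≤ Subgroup.centralizer (S.A0 : Set G) := by
    refine S.Gn_le (fun l hl x hx => ?_) fun l hl hl' x hx => ?_
    · rw [Subgroup.mem_centralizer_iff]
      intro y hy
      have hne : S.i ≠ l := fun e => by subst e; omega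
      refine S.commute_of_injOn (S.pair_SS _ _ hne) (Subgroup.mem_sup_left hy)
        (Subgroup.mem_sup_right hx) ?_
      exact Sgp_commute (S.φ_Sl hy) (mem_Sgp.1 (S.φ_Sl hx) _ hne).1 (mem_Sgp.1 (S.φ_Sl hx) _ hne).2
    · rw [Subgroup.mem_centralizer_iff]
      intro y hy
      have hM := mem_Mgp.1 (S.φ_Ml hl' hx)
      refine S.commute_of_injOn (S.pair_MS _ _ hl') (Subgroup.mem_sup_right hy)
        (Subgroup.mem_sup_left hx) (Sgp_commute (S.φ_Sl hy) (hM.1 _) (hM.2 _ (by omega) (by omega)))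
  exact Subgroup.mem_centralizer_iff.1 (h hd) a ha

end Step

end CfsgLib.SpSlim
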