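import Cfsg.Agent.SpSlim.Frame

/-!
# The radical of the point stabiliser

`T v` lifts `Q e v 0` for `v` in the space above `j`; it is equivariant under the part above `j`
and `T v * T w = T (v + w) * z (ω(v, w))`.
-/

set_option autoImplicit false
set_option linter.unusedVariables false

namespace CfsgLib.SpSlim

open Matrix CfsgLib.Forms

namespace Step

variable {G : Type*} [Group G] {F : Type*} [Field F] {n : ℕ} (S : Step G F n)

theorem lt : (S.i : ℕ) < S.j := by have := S.hij; omega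

theorem e1_mem : S.e1 ∈ W (S.j : ℕ) := eb_mem_W le_rfl

theorem f1_mem : S.f1 ∈ W (S.j : ℕ) := fb_mem_W le_rfl

theorem e1_ne : S.e1 ≠ 0 := fun h => by
  have := congrArg (fun v => om v S.f1) h
  simp at this

theorem om_e {v : V F n} (hv : v ∈ W (S.j : ℕ)) : om S.e v = 0 := (hv S.i S.lt).1

theorem om_f {v : V F n} (hv : v ∈ W (S.j : ℕ)) : om S.f v = 0 := (hv S.i S.lt).2

theorem om_e' {v : V F n} (hv : v ∈ W (S.j : ℕ)) : om v S.e = 0 := by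
  rw [om_swap, S.om_e hv, neg_zero]

theorem om_f' {v : V F n} (hv : v ∈ W (S.j : ℕ)) : om v S.f = 0 := by
  rw [om_swap, S.om_f hv, neg_zero]

theorem fix_e {g : Sp F n} (hg : g ∈ Stab (S.j : ℕ)) : act g S.e = S.e :=
  (mem_Stab.1 hg S.i S.lt).1

theorem fix_f {g : Sp F n} (hg : g ∈ Stab (S.j : ℕ)) : act g S.f = S.f :=
  (mem_Stab.1 hg S.i S.lt).2

theorem om_e_e1 (a : F) : om S.e (a • S.e1) = 0 := by simp

theorem Sgp_j_le : (Sgp S.j : Subgroup (Sp F n)) ≤ Stab (S.j : ℕ) := Sgp_le_Stab le_rfl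

theorem Q_mem_Sgp_j (v : V F n) (hv : ∀ k, k ≠ S.j → om (eb k) v = 0 ∧ om (fb k) v = 0) (c : F) :
    Q v 0 c ∈ Sgp S.j :=
  mem_Sgp.2 fun k hk => ⟨Q_fix (map_zero _) c (by rw [om_swap, (hv k hk).1, neg_zero]) (by simp),
    Q_fix (map_zero _) c (by rw [om_swap, (hv k hk).2, neg_zero]) (by simp)⟩

theorem Q_e1_mem_Sgp (c : F) : Q S.e1 0 c ∈ Sgp S.j :=
  S.Q_mem_Sgp_j _ (fun k hk => ⟨om_ee _ _, om_fe_ne hk⟩) c

theorem Q_f1_mem_Sgp (c : F) : Q S.f1 0 c ∈ Sgp S.j :=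
  S.Q_mem_Sgp_j _ (fun k hk => ⟨om_ef_ne hk, om_ff _ _⟩) c

theorem Q_e_mem_Sgp_i (c : F) : Q S.e 0 c ∈ Sgp S.i :=
  mem_Sgp.2 fun k hk => ⟨Q_fix (map_zero _) c (om_ee _ _) (by simp),
    Q_fix (map_zero _) c (om_ef_ne (Ne.symm hk)) (by simp)⟩

theorem Q_e_mem_Mgp (a c : F) : Q S.e (a • S.e1) c ∈ Mgp S.i :=
  mem_Mgp.2 ⟨fun k => Q_fix (S.om_e_e1 a) c (om_ee _ _) (by simp),
    fun k h1 h2 => Q_fix (S.om_e_e1 a) c (om_ef_ne fun h => h1 (by rw [← h]))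
      (by simp [om_ef_ne (show S.j ≠ k from fun h => h2 (by rw [← h, S.hij]))])⟩

theorem Q_e1_mem_Mgp (c : F) : Q S.e1 0 c ∈ Mgp S.i :=
  mem_Mgp.2 ⟨fun k => Q_fix (map_zero _) c (om_ee _ _) (by simp),
    fun k h1 h2 => Q_fix (map_zero _) c
      (om_ef_ne (show S.j ≠ k from fun h => h2 (by rw [← h, S.hij]))) (by simp)⟩

/-- The lift of `Q e (a e1) c` in the edge group. -/
noncomputable def t1 (a c : F) : G := S.LM (Q S.e (a • S.e1) c)

theorem t1_mem (a c : F) : S.t1 a c ∈ S.Ml S.i := S.LM_mem _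

theorem φ_t1 (a c : F) : S.φ (S.t1 a c) = Q S.e (a • S.e1) c := S.φ_LM (S.Q_e_mem_Mgp a c)

theorem φ_t1' : S.φ (S.t1 1 0) = Q S.e S.e1 0 := by rw [φ_t1, one_smul]

theorem mem_B_of_Ml {x : G} (h : x ∈ S.Ml S.i) : x ∈ S.B := Subgroup.mem_sup_left h

theorem mem_B_of_A0 {x : G} (h : x ∈ S.A0) : x ∈ S.B := Subgroup.mem_sup_right h

theorem mem_B1_of_Ml {x : G} (h : x ∈ S.Ml S.i) : x ∈ S.B1 := Subgroup.mem_sup_left h

theorem mem_B1_of_Sl {x : G} (h : x ∈ S.Sl S.j) : x ∈ S.B1 := Subgroup.mem_sup_right h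

/-- The lift of `Q e 0 c`. -/
noncomputable def z (c : F) : G := S.LA (Q S.e 0 c)

theorem z_mem (c : F) : S.z c ∈ S.A0 := S.LA_mem _

theorem φ_z (c : F) : S.φ (S.z c) = Q S.e 0 c := S.φ_LA (S.Q_e_mem_Sgp_i c)

theorem z_eq (c : F) : S.z c = S.t1 0 c :=
  S.B_inj (S.mem_B_of_A0 (S.z_mem c)) (S.mem_B_of_Ml (S.t1_mem 0 c))
    (by rw [S.φ_z, S.φ_t1, zero_smul])

theorem z_mem_Ml (c : F) : S.z c ∈ S.Ml S.i := S.z_eq c ▸ S.t1_mem 0 c

theorem z_zero : S.z 0 = 1 :=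
  S.pair_S _ (S.z_mem 0) (one_mem _) (by rw [φ_z, map_one, Q_zero])

theorem z_add (c c' : F) : S.z (c + c') = S.z c * S.z c' :=
  S.pair_S _ (S.z_mem _) (mul_mem (S.z_mem c) (S.z_mem c'))
    (by rw [map_mul, φ_z, φ_z, φ_z, Q_mul (map_zero _) (map_zero _)]; simp)

theorem LD_Q_e1_mem (c : F) : S.LD (Q S.e1 0 c) ∈ S.Ml S.i := by
  have h : S.LD (Q S.e1 0 c) = S.LM (Q S.e1 0 c) :=
    S.B1_inj (S.mem_B1_of_Sl (S.LD_mem_Sl (S.Q_e1_mem_Sgp c)))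
      (S.mem_B1_of_Ml (S.LM_mem _))
      (by rw [S.φ_LD (S.Sgp_j_le (S.Q_e1_mem_Sgp c)), S.φ_LM (S.Q_e1_mem_Mgp c)])
  exact h ▸ S.LM_mem _

/-- The commuting partners of `t1`. -/
theorem comm_t1_of_fix {H : Subgroup G} (hH : Set.InjOn S.φ ↑(S.Ml S.i ⊔ H)) {x : G} (hx : x ∈ H)
    (h : act (S.φ x) S.e = S.e) (h1 : act (S.φ x) S.e1 = S.e1) :
    x * S.t1 1 0 = S.t1 1 0 * x := by
  refine S.commute_of_injOn hH (Subgroup.mem_sup_right hx) (Subgroup.mem_sup_left (S.t1_mem 1 0)) ?_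
  rw [S.φ_t1']
  exact Q_comm_iff (by simp) 0 h h1

theorem comm_t1_upper {x : G} (hx : x ∈ S.Gn ((S.j : ℕ) + 1)) :
    x * S.t1 1 0 = S.t1 1 0 * x := by
  have hle : S.Gn ((S.j : ℕ) + 1) ≤ Subgroup.centralizer {S.t1 1 0} := by
    refine S.Gn_le (fun l hl x hx => ?_) fun l hl hl' x hx => ?_
    · rw [Subgroup.mem_centralizer_singleton_iff]
      refine S.comm_t1_of_fix (S.pair_MS _ _ S.hi) hx ?_ ?_
      · exact (mem_Sgp.1 (S.φ_Sl hx) _ fun h => by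
          have := S.hij; subst h; omega).1
      · exact (mem_Sgp.1 (S.φ_Sl hx) _ fun h => by subst h; omega).1
    · rw [Subgroup.mem_centralizer_singleton_iff]
      refine S.comm_t1_of_fix (S.pair_MM _ _ (fun h => ?_) S.hi hl') hx
        ((mem_Mgp.1 (S.φ_Ml hl' hx)).1 _) ((mem_Mgp.1 (S.φ_Ml hl' hx)).1 _)
      have := S.hij; subst h; omega
  exact Subgroup.mem_centralizer_singleton_iff.1 (hle hx)

theorem LD_upper {g : Sp F n} (hg : g ∈ Stab ((S.j : ℕ) + 1)) :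
    S.LD g * S.t1 1 0 = S.t1 1 0 * S.LD g := by
  rw [← S.ih_next] at hg
  obtain ⟨x, hx, rfl⟩ := hg
  rw [← S.eq_LD (S.Gn_anti (Nat.le_succ _) hx)]
  exact S.comm_t1_upper hx

theorem LD_conj_t1 {g : Sp F n} (h : S.LD g * S.t1 1 0 = S.t1 1 0 * S.LD g) {g' : Sp F n}
    (hg : g ∈ Stab (S.j : ℕ)) (hg' : g' ∈ Stab (S.j : ℕ))
    (h' : S.LD g' * S.t1 1 0 = S.t1 1 0 * S.LD g') :
    S.LD (g * g') * S.t1 1 0 = S.t1 1 0 * S.LD (g * g') := by
  rw [S.LD_mul hg hg', mul_assoc, h', ← mul_assoc, h, mul_assoc]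

/-- The stabiliser of `e1` centralises `t1`. -/
theorem LD_comm_t1 {g : Sp F n} (hg : g ∈ Stab (S.j : ℕ)) (h1 : act g S.e1 = S.e1) :
    S.LD g * S.t1 1 0 = S.t1 1 0 * S.LD g := by
  obtain ⟨v, hv, c, g', hg', hev, rfl⟩ := stab_decomp (m := (S.j : ℕ)) rfl hg h1
  have hg'j : g' ∈ Stab (S.j : ℕ) := Stab_anti (Nat.le_succ _) hg'
  have hvj : v ∈ W (S.j : ℕ) := W_anti (Nat.le_succ _) hv
  have hQ : Q S.e1 v c ∈ Stab (S.j : ℕ) := Q_mem_Stab S.e1_mem hvj hev c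
  refine S.LD_conj_t1 ?_ hQ hg'j (S.LD_upper hg')
  have hsplit : Q S.e1 v c = Q S.e1 v 0 * Q S.e1 0 c := by
    rw [Q_mul hev (map_zero _)]; simp
  rw [hsplit]
  refine S.LD_conj_t1 ?_ (Q_mem_Stab S.e1_mem hvj hev 0) (Q_mem_Stab S.e1_mem (zero_mem _) (map_zero _) c) ?_
  · rcases eq_or_ne v 0 with rfl | hv0
    · rw [Q_zero, S.LD_one, one_mul, mul_one]
    have hn : (S.j : ℕ) + 1 < n := by
      by_contra hc
      exact hv0 (W_eq_zero (not_lt.1 hc) hv)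
    set k : Fin n := ⟨(S.j : ℕ) + 1, hn⟩ with hk
    obtain ⟨h, hh, he2⟩ := exists_move (m := (S.j : ℕ) + 1) (u := eb k) (u' := v)
      (eb_mem_W (by simp [hk])) hv (fun h => by
        have := congrArg (fun u => om u (fb k)) h
        simp at this) hv0
    have hjk : S.j ≠ k := fun h => by
      have := congrArg Fin.val h
      simp [hk] at this
    have hy : Q S.e1 (eb k) 0 ∈ Mgp S.j :=
      mem_Mgp.2 ⟨fun l => Q_fix (om_ee _ _) 0 (om_ee _ _) (om_ee _ _), fun l h1 h2 =>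
        Q_fix (om_ee _ _) 0 (om_ef_ne fun h => h1 (by rw [← h]))
          (om_ef_ne fun h => h2 (by rw [← h]))⟩
    have hhj : h ∈ Stab (S.j : ℕ) := Stab_anti (Nat.le_succ _) hh
    have hQy : Q S.e1 (eb k) 0 ∈ Stab (S.j : ℕ) := Mgp_le_Stab le_rfl hy
    have hfix : act h S.e1 = S.e1 := (mem_Stab.1 hh S.j (Nat.lt_succ_self _)).1
    have hcj : Q S.e1 v 0 = h * Q S.e1 (eb k) 0 * h⁻¹ := by rw [Q_conj (om_ee _ _), hfix, he2]
    rw [hcj]
    refine S.LD_conj_t1 (S.LD_conj_t1 (S.LD_upper hh) hhj hQy ?_) (mul_mem hhj hQy)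
      (inv_mem hhj) ?_
    · have hx := S.φ_liftIn (H := S.Ml S.j) (x := Q S.e1 (eb k) 0)
        (by rw [S.map_M _ (by simpa [hk] using hn)]; exact hy)
      have hmem := S.liftIn_mem (S.Ml S.j) (Q S.e1 (eb k) 0)
      rw [← hx, ← S.eq_LD (S.Ml_le_Gn le_rfl hn hmem)]
      exact S.comm_t1_of_fix (S.pair_MM _ _ S.i_ne_j S.hi hn) hmem
        (by rw [hx]; exact S.fix_e hQy) (by rw [hx]; exact (mem_Mgp.1 hy).1 _)
    · exact S.LD_upper (inv_mem hh)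
  · refine S.comm_t1_of_fix (S.pair_MS _ _ S.hi) (S.LD_mem_Sl (S.Q_e1_mem_Sgp c)) ?_ ?_ <;>
      rw [S.φ_LD (S.Sgp_j_le (S.Q_e1_mem_Sgp c))]
    · exact S.fix_e (S.Sgp_j_le (S.Q_e1_mem_Sgp c))
    · exact Q_fix (map_zero _) c (om_ee _ _) (by simp)

open scoped Classical in
/-- The lift of `Q e v 0`. -/
noncomputable def T (v : V F n) : G :=
  if h : v ∈ W (S.j : ℕ) ∧ v ≠ 0 then
    S.LD (exists_move S.e1_mem h.1 S.e1_ne h.2).choose * S.t1 1 0 *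
      (S.LD (exists_move S.e1_mem h.1 S.e1_ne h.2).choose)⁻¹
  else 1

theorem T_zero : S.T 0 = 1 := by unfold T; rw [dif_neg]; simp

theorem T_eq {v : V F n} {g : Sp F n} (hg : g ∈ Stab (S.j : ℕ)) (h : act g S.e1 = v) :
    S.T v = S.LD g * S.t1 1 0 * (S.LD g)⁻¹ := by
  have hv : v ∈ W (S.j : ℕ) ∧ v ≠ 0 :=
    ⟨h ▸ Stab_map_W hg S.e1_mem, h ▸ act_ne_zero g S.e1_ne⟩
  unfold T
  rw [dif_pos hv]
  obtain ⟨hk, hke⟩ := (exists_move S.e1_mem hv.1 S.e1_ne hv.2).choose_spec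
  generalize (exists_move S.e1_mem hv.1 S.e1_ne hv.2).choose = k at hk hke ⊢
  have hc := S.LD_comm_t1 (mul_mem (inv_mem hg) hk)
    (by rw [act_mul, hke]; exact act_inv_eq h)
  rw [S.LD_mul (inv_mem hg) hk, S.LD_inv hg] at hc
  calc S.LD k * S.t1 1 0 * (S.LD k)⁻¹
      = S.LD g * ((S.LD g)⁻¹ * S.LD k * S.t1 1 0) * (S.LD k)⁻¹ := by group
    _ = S.LD g * (S.t1 1 0 * ((S.LD g)⁻¹ * S.LD k)) * (S.LD k)⁻¹ := by rw [hc]
    _ = _ := by group

theorem T_e1 : S.T S.e1 = S.t1 1 0 := by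
  rw [S.T_eq (one_mem _) (act_one _), S.LD_one]; group

theorem φ_T {v : V F n} (hv : v ∈ W (S.j : ℕ)) : S.φ (S.T v) = Q S.e v 0 := by
  rcases eq_or_ne v 0 with rfl | h0
  · rw [S.T_zero, map_one, Q_zero]
  obtain ⟨g, hg, h⟩ := exists_move S.e1_mem hv S.e1_ne h0
  rw [S.T_eq hg h, map_mul, map_mul, map_inv, S.φ_LD hg, S.φ_t1',
    Q_conj (by simp), S.fix_e hg, h]

theorem conj_T {g : Sp F n} (hg : g ∈ Stab (S.j : ℕ)) {v : V F n} (hv : v ∈ W (S.j : ℕ)) :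
    S.LD g * S.T v * (S.LD g)⁻¹ = S.T (act g v) := by
  rcases eq_or_ne v 0 with rfl | h0
  · rw [act_zero, S.T_zero]; group
  obtain ⟨k, hk, h⟩ := exists_move S.e1_mem hv S.e1_ne h0
  rw [S.T_eq hk h, S.T_eq (mul_mem hg hk) (by rw [act_mul, h]), S.LD_mul hg hk]
  group

theorem z_comm_D {d : G} (hd : d ∈ S.D) (c : F) : S.z c * d = d * S.z c :=
  S.A0_comm_D (S.z_mem c) hd

theorem T_plane {v : V F n} {g : Sp F n} (hg : g ∈ Sgp S.j) (h : act g S.e1 = v) :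
    S.T v ∈ S.B1 := by
  rw [S.T_eq (S.Sgp_j_le hg) h]
  have h1 := S.mem_B1_of_Sl (S.LD_mem_Sl hg)
  exact mul_mem (mul_mem h1 (S.mem_B1_of_Ml (S.t1_mem 1 0))) (inv_mem h1)

theorem z_mem_B1 (c : F) : S.z c ∈ S.B1 := S.mem_B1_of_Ml (S.z_mem_Ml c)

theorem T_smul_e1 (a : F) : S.T (a • S.e1) = S.t1 a 0 := by
  rcases eq_or_ne a 0 with rfl | ha
  · rw [zero_smul, S.T_zero, ← S.z_eq, S.z_zero]
  have hd : a * a⁻¹ - 0 * 0 = 1 := by rw [mul_inv_cancel₀ ha]; ring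
  have hg : plane S.j a 0 0 a⁻¹ ∈ Sgp S.j := plane_mem_Sgp hd
  have he : act (plane S.j a 0 0 a⁻¹) S.e1 = a • S.e1 := by rw [plane_eb hd]; simp
  refine S.B1_inj (S.T_plane hg he) (S.mem_B1_of_Ml (S.t1_mem a 0)) ?_
  rw [S.φ_T ((W _).smul_mem a S.e1_mem), S.φ_t1]

theorem t1_eq (a c : F) : S.t1 a c = S.T (a • S.e1) * S.z c := by
  rw [S.T_smul_e1, S.z_eq]
  refine S.B_inj (S.mem_B_of_Ml (S.t1_mem a c))
    (mul_mem (S.mem_B_of_Ml (S.t1_mem a 0)) (S.mem_B_of_Ml (S.t1_mem 0 c))) ?_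
  rw [map_mul, φ_t1, φ_t1, φ_t1, Q_mul (S.om_e_e1 a) (S.om_e_e1 0)]
  simp

theorem T_comm_z {v : V F n} (hv : v ∈ W (S.j : ℕ)) (c : F) :
    S.T v * S.z c = S.z c * S.T v := by
  rcases eq_or_ne v 0 with rfl | h0
  · rw [S.T_zero, one_mul, mul_one]
  obtain ⟨g, hg, h⟩ := exists_move S.e1_mem hv S.e1_ne h0
  have hc : S.t1 1 0 * S.z c = S.z c * S.t1 1 0 :=
    S.commute_of_injOn S.B_inj (S.mem_B_of_Ml (S.t1_mem 1 0)) (S.mem_B_of_A0 (S.z_mem c))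
      (by
        rw [S.φ_t1', S.φ_z, Q_mul (by simp) (map_zero _), Q_mul (map_zero _) (by simp)]
        simp [add_comm])
  have hd := S.z_comm_D (S.LD_mem g) c
  rw [S.T_eq hg h]
  calc S.LD g * S.t1 1 0 * (S.LD g)⁻¹ * S.z c
      = S.LD g * S.t1 1 0 * ((S.LD g)⁻¹ * S.z c) := by group
    _ = S.LD g * S.t1 1 0 * (S.z c * (S.LD g)⁻¹) := by
      rw [S.z_comm_D (inv_mem (S.LD_mem g)) c]
    _ = S.LD g * (S.z c * S.t1 1 0) * (S.LD g)⁻¹ := by rw [← hc]; group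
    _ = S.LD g * S.z c * S.t1 1 0 * (S.LD g)⁻¹ := by group
    _ = _ := by rw [← hd]; group

theorem conj_law {g : Sp F n} (hg : g ∈ Stab (S.j : ℕ)) {v w : V F n} (hv : v ∈ W (S.j : ℕ))
    (hw : w ∈ W (S.j : ℕ)) (h : S.T v * S.T w = S.T (v + w) * S.z (om v w)) :
    S.T (act g v) * S.T (act g w) = S.T (act g v + act g w) * S.z (om (act g v) (act g w)) := by
  rw [← act_add, om_act, ← S.conj_T hg hv, ← S.conj_T hg hw, ← S.conj_T hg (add_mem hv hw)]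
  calc S.LD g * S.T v * (S.LD g)⁻¹ * (S.LD g * S.T w * (S.LD g)⁻¹)
      = S.LD g * (S.T v * S.T w) * (S.LD g)⁻¹ := by group
    _ = S.LD g * (S.T (v + w) * S.z (om v w)) * (S.LD g)⁻¹ := by rw [h]
    _ = S.LD g * S.T (v + w) * (S.z (om v w) * (S.LD g)⁻¹) := by group
    _ = S.LD g * S.T (v + w) * ((S.LD g)⁻¹ * S.z (om v w)) := by
      rw [S.z_comm_D (inv_mem (S.LD_mem g))]
    _ = _ := by group

theorem mul_smul_e1 (a b : F) :
    S.T (a • S.e1) * S.T (b • S.e1) = S.T (a • S.e1 + b • S.e1) * S.z (om (a • S.e1) (b • S.e1)) := by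
  rw [← add_smul]
  simp only [map_smul, LinearMap.smul_apply, om_ee, smul_zero, S.z_zero, mul_one, S.T_smul_e1]
  refine S.B_inj (mul_mem (S.mem_B_of_Ml (S.t1_mem a 0)) (S.mem_B_of_Ml (S.t1_mem b 0)))
    (S.mem_B_of_Ml (S.t1_mem _ 0)) ?_
  rw [map_mul, φ_t1, φ_t1, φ_t1, Q_mul (S.om_e_e1 a) (S.om_e_e1 b), ← add_smul]
  simp

theorem mul_pair {μ : F} (hμ : μ ≠ 0) :
    S.T S.e1 * S.T (μ • S.f1) = S.T (S.e1 + μ • S.f1) * S.z (om S.e1 (μ • S.f1)) := by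
  have hd1 : (0 : F) * 0 - μ * (-μ⁻¹) = 1 := by field_simp; ring
  have hd2 : (1 : F) * 1 - μ * 0 = 1 := by ring
  have e1 : act (plane S.j 0 μ (-μ⁻¹) 0) S.e1 = μ • S.f1 := by rw [plane_eb hd1]; simp
  have e2 : act (plane S.j 1 μ 0 1) S.e1 = S.e1 + μ • S.f1 := by rw [plane_eb hd2]; simp
  have h1 : μ • S.f1 ∈ W (S.j : ℕ) := (W _).smul_mem μ S.f1_mem
  refine S.B1_inj (mul_mem (S.T_plane (one_mem _) (act_one _)) (S.T_plane (plane_mem_Sgp hd1) e1))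
    (mul_mem (S.T_plane (plane_mem_Sgp hd2) e2) (S.z_mem_B1 _)) ?_
  rw [map_mul, map_mul, S.φ_T S.e1_mem, S.φ_T h1, S.φ_T (add_mem S.e1_mem h1), S.φ_z,
    Q_mul (S.om_e S.e1_mem) (S.om_e h1), Q_mul (S.om_e (add_mem S.e1_mem h1)) (map_zero _)]
  simp

theorem mul_of_ne {v w : V F n} (hv : v ∈ W (S.j : ℕ)) (hw : w ∈ W (S.j : ℕ))
    (h : om v w ≠ 0) : S.T v * S.T w = S.T (v + w) * S.z (om v w) := by
  obtain ⟨g, hg, h1, h2⟩ := exists_pair S.e1_mem S.f1_mem hv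
    ((W _).smul_mem (om v w)⁻¹ hw) (by simp) (by rw [map_smul, smul_eq_mul, inv_mul_cancel₀ h])
  have hw' : act g (om v w • S.f1) = w := by
    rw [act_smul, h2, smul_smul, mul_inv_cancel₀ h, one_smul]
  have := S.conj_law hg S.e1_mem ((W _).smul_mem (om v w) S.f1_mem) (S.mul_pair h)
  rwa [h1, hw'] at this

/-- The multiplication rule. -/
theorem T_mul {v w : V F n} (hv : v ∈ W (S.j : ℕ)) (hw : w ∈ W (S.j : ℕ)) :
    S.T v * S.T w = S.T (v + w) * S.z (om v w) := by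
  by_cases h : om v w ≠ 0
  · exact S.mul_of_ne hv hw h
  push Not at h
  rcases eq_or_ne v 0 with rfl | h0
  · simp [S.T_zero, S.z_zero]
  obtain ⟨g, hg, hgv⟩ := exists_move S.e1_mem hv S.e1_ne h0
  obtain ⟨x, hxW, hgx⟩ : ∃ x ∈ W (S.j : ℕ), act g x = w :=
    ⟨act g⁻¹ w, Stab_map_W (inv_mem hg) hw, act_act_inv g w⟩
  suffices hs : S.T S.e1 * S.T x = S.T (S.e1 + x) * S.z (om S.e1 x) by
    have := S.conj_law hg S.e1_mem hxW hs
    rwa [hgv, hgx] at this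
  have h1x : om S.e1 x = 0 := by rw [← om_act g, hgv, hgx, h]
  set a := om x S.f1 with ha
  obtain ⟨y, hy⟩ : ∃ y, y = x - a • S.e1 := ⟨_, rfl⟩
  have hyW : y ∈ W ((S.j : ℕ) + 1) := by
    have := W_split (k := S.j) rfl hxW
    rwa [h1x, zero_smul, sub_zero, ← hy] at this
  rcases eq_or_ne y 0 with h | hy0
  · have hx : x = a • S.e1 := by rw [h] at hy; exact sub_eq_zero.1 hy.symm
    have := S.mul_smul_e1 1 a
    rwa [one_smul, ← hx] at this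
  obtain ⟨q, hq, hq0⟩ := W_partner hyW hy0
  rw [← sympBilin_apply] at hq0
  obtain ⟨q', hq'W, hq'⟩ : ∃ q' ∈ W ((S.j : ℕ) + 1), om q' y = S.a₀ + a :=
    ⟨(-(S.a₀ + a) * (om y q)⁻¹) • q, (W _).smul_mem _ hq, by
      rw [map_smul, LinearMap.smul_apply, smul_eq_mul, om_swap y q]
      field_simp⟩
  obtain ⟨u, hu⟩ : ∃ u, u = S.f1 + q' := ⟨_, rfl⟩
  have huW : u ∈ W (S.j : ℕ) := hu ▸ add_mem S.f1_mem (W_anti (Nat.le_succ _) hq'W)
  have h1u : om S.e1 u = 1 := by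
    rw [hu, map_add, om_ef, (hq'W S.j (Nat.lt_succ_self _)).1, add_zero]
  have hfy : om S.f1 y = 0 := (hyW S.j (Nat.lt_succ_self _)).2
  have hqe : om q' S.e1 = 0 := by rw [om_swap, (hq'W S.j (Nat.lt_succ_self _)).1, neg_zero]
  have hxy : x = a • S.e1 + y := by rw [hy]; abel
  have hux : om u x = S.a₀ := by
    rw [hu, hxy]
    simp [hfy, hqe, hq']
  have hd : x - u ∈ W (S.j : ℕ) := sub_mem hxW huW
  have e1 := S.mul_of_ne S.e1_mem huW (by rw [h1u]; exact one_ne_zero)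
  have e2 := S.mul_of_ne huW hd (by rw [map_sub, hux, om_self, sub_zero]; exact S.a₀_ne)
  have hsum : om (S.e1 + u) (x - u) = S.a₀ - 1 := by
    simp [map_sub, h1x, h1u, hux, om_self]
  have e3 := S.mul_of_ne (add_mem S.e1_mem huW) hd
    (by rw [hsum]; exact sub_ne_zero.2 S.a₀_ne_one)
  rw [add_sub_cancel] at e2
  rw [show S.e1 + u + (x - u) = S.e1 + x by abel] at e3
  have e4 : S.T x = S.T u * S.T (x - u) * S.z (- om u (x - u)) := by
    rw [e2, mul_assoc, ← S.z_add, add_neg_cancel, S.z_zero, mul_one]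
  calc S.T S.e1 * S.T x
      = S.T S.e1 * (S.T u * S.T (x - u) * S.z (- om u (x - u))) := by rw [← e4]
    _ = S.T S.e1 * S.T u * S.T (x - u) * S.z (- om u (x - u)) := by group
    _ = S.T (S.e1 + u) * (S.z (om S.e1 u) * S.T (x - u)) * S.z (- om u (x - u)) := by
      rw [e1]; group
    _ = S.T (S.e1 + u) * (S.T (x - u) * S.z (om S.e1 u)) * S.z (- om u (x - u)) := by
      rw [S.T_comm_z hd]
    _ = S.T (S.e1 + u) * S.T (x - u) * (S.z (om S.e1 u) * S.z (- om u (x - u))) := by group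
    _ = S.T (S.e1 + x) * (S.z (om (S.e1 + u) (x - u)) *
          (S.z (om S.e1 u) * S.z (- om u (x - u)))) := by rw [e3]; group
    _ = _ := by
      rw [← S.z_add, ← S.z_add, hsum, h1u, map_sub, hux, om_self, h1x]
      congr 2
      ring

theorem T_neg {v : V F n} (hv : v ∈ W (S.j : ℕ)) : S.T (-v) = (S.T v)⁻¹ := by
  refine (inv_eq_of_mul_eq_one_right ?_).symm
  rw [S.T_mul hv (neg_mem hv), add_neg_cancel, S.T_zero, map_neg, om_self, neg_zero, S.z_zero,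
    one_mul]

/-- The point stabiliser. -/
noncomputable def P : Subgroup G :=
  Subgroup.closure ({x | ∃ v ∈ W (S.j : ℕ), x = S.T v} ∪ Set.range S.z ∪ (S.D : Set G))

theorem T_mem_P {v : V F n} (hv : v ∈ W (S.j : ℕ)) : S.T v ∈ S.P :=
  Subgroup.subset_closure (Or.inl (Or.inl ⟨v, hv, rfl⟩))

theorem z_mem_P (c : F) : S.z c ∈ S.P := Subgroup.subset_closure (Or.inl (Or.inr ⟨c, rfl⟩))

theorem D_le_P : S.D ≤ S.P := fun _ h => Subgroup.subset_closure (Or.inr h)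

theorem Tzd_mul {v w : V F n} (hv : v ∈ W (S.j : ℕ)) (hw : w ∈ W (S.j : ℕ)) (c c' : F)
    {g g' : Sp F n} (hg : g ∈ Stab (S.j : ℕ)) (hg' : g' ∈ Stab (S.j : ℕ)) :
    S.T v * S.z c * S.LD g * (S.T w * S.z c' * S.LD g') =
      S.T (v + act g w) * S.z (c + c' + om v (act g w)) * S.LD (g * g') := by
  have hgw := Stab_map_W hg hw
  calc S.T v * S.z c * S.LD g * (S.T w * S.z c' * S.LD g')
      = S.T v * S.z c * (S.LD g * S.T w * (S.LD g)⁻¹) * (S.LD g * S.z c') * S.LD g' := by group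
    _ = S.T v * S.z c * S.T (act g w) * (S.z c' * S.LD g) * S.LD g' := by
      rw [S.conj_T hg hw, ← S.z_comm_D (S.LD_mem g)]
    _ = S.T v * (S.z c * S.T (act g w)) * S.z c' * (S.LD g * S.LD g') := by group
    _ = S.T v * (S.T (act g w) * S.z c) * S.z c' * S.LD (g * g') := by
      rw [S.T_comm_z hgw, S.LD_mul hg hg']
    _ = S.T v * S.T (act g w) * (S.z c * S.z c') * S.LD (g * g') := by group
    _ = S.T (v + act g w) * (S.z (om v (act g w)) * (S.z c * S.z c')) * S.LD (g * g') := by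
      rw [S.T_mul hv hgw]; group
    _ = _ := by
      rw [← S.z_add, ← S.z_add]
      ring_nf

theorem exists_Tzd {x : G} (hx : x ∈ S.P) :
    ∃ v ∈ W (S.j : ℕ), ∃ c, ∃ g ∈ Stab (S.j : ℕ), x = S.T v * S.z c * S.LD g := by
  induction hx using Subgroup.closure_induction with
  | mem x hx =>
    rcases hx with (⟨v, hv, rfl⟩ | ⟨c, rfl⟩) | hd
    · exact ⟨v, hv, 0, 1, one_mem _, by rw [S.z_zero, S.LD_one, mul_one, mul_one]⟩
    · exact ⟨0, zero_mem _, c, 1, one_mem _, by rw [S.T_zero, S.LD_one, one_mul, mul_one]⟩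
    · exact ⟨0, zero_mem _, 0, _, S.φ_Gn hd, by
        rw [S.T_zero, S.z_zero, one_mul, one_mul, ← S.eq_LD hd]⟩
  | one => exact ⟨0, zero_mem _, 0, 1, one_mem _, by rw [S.T_zero, S.z_zero, S.LD_one]; simp⟩
  | mul x y _ _ hx hy =>
    obtain ⟨v, hv, c, g, hg, rfl⟩ := hx
    obtain ⟨w, hw, c', g', hg', rfl⟩ := hy
    exact ⟨_, add_mem hv (Stab_map_W hg hw), _, _, mul_mem hg hg', S.Tzd_mul hv hw c c' hg hg'⟩
  | inv x _ hx =>
    obtain ⟨v, hv, c, g, hg, rfl⟩ := hx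
    have hw : - act g⁻¹ v ∈ W (S.j : ℕ) := neg_mem (Stab_map_W (inv_mem hg) hv)
    refine ⟨_, hw, -c, g⁻¹, inv_mem hg, inv_eq_of_mul_eq_one_right ?_⟩
    rw [S.Tzd_mul hv hw c (-c) hg (inv_mem hg), act_neg, act_act_inv, add_neg_cancel, map_neg,
      om_self, mul_inv_cancel, S.T_zero, S.LD_one]
    simp [S.z_zero]

theorem φ_Tzd {v : V F n} (hv : v ∈ W (S.j : ℕ)) (c : F) {g : Sp F n} (hg : g ∈ Stab (S.j : ℕ)) :
    S.φ (S.T v * S.z c * S.LD g) = Q S.e v c * g := by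
  rw [map_mul, map_mul, S.φ_T hv, S.φ_z, S.φ_LD hg, Q_mul (S.om_e hv) (map_zero _)]
  simp

theorem P_inj : Set.InjOn S.φ ↑S.P := by
  have key : ∀ x ∈ S.P, S.φ x = 1 → x = 1 := by
    intro x hx h
    obtain ⟨v, hv, c, g, hg, rfl⟩ := S.exists_Tzd hx
    rw [S.φ_Tzd hv c hg] at h
    have hf := congrArg (fun a => act a S.f) h
    simp only [act_mul, act_one, S.fix_f hg, act_Q (S.om_e hv), om_ef, S.om_f' hv] at hf
    rw [one_smul, zero_smul, add_zero, add_assoc, add_eq_left, mul_one] at hf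
    have hc : c = 0 := by
      have := congrArg (fun a => om a S.f) hf
      simpa [S.om_f' hv] using this
    subst hc
    rw [zero_smul, add_zero] at hf
    subst hf
    rw [Q_zero, one_mul] at h
    rw [h, S.T_zero, S.z_zero, S.LD_one, one_mul, one_mul]
  intro x hx y hy hxy
  exact mul_inv_eq_one.1 (key _ (mul_mem hx (inv_mem hy)) (by rw [map_mul, map_inv, hxy, mul_inv_cancel]))

theorem P_surj {g : Sp F n} (hg : g ∈ Stab (S.i : ℕ)) (he : act g S.e = S.e) :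
    ∃ x ∈ S.P, S.φ x = g := by
  obtain ⟨v, hv, c, g', hg', -, rfl⟩ := stab_decomp (m := (S.i : ℕ)) rfl hg he
  rw [S.hij] at hv hg'
  exact ⟨_, mul_mem (mul_mem (S.T_mem_P hv) (S.z_mem_P c)) (S.D_le_P (S.LD_mem g')), S.φ_Tzd hv c hg'⟩

theorem φ_P_fix_e {x : G} (hx : x ∈ S.P) : act (S.φ x) S.e = S.e := by
  obtain ⟨v, hv, c, g, hg, rfl⟩ := S.exists_Tzd hx
  rw [S.φ_Tzd hv c hg, act_mul, S.fix_e hg]
  exact Q_fix (S.om_e hv) c (om_ee _ _) (S.om_e' hv)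

theorem eq_of_P {x y : G} (hx : x ∈ S.P) (hy : y ∈ S.P) (h : S.φ x = S.φ y) : x = y :=
  S.P_inj hx hy h

/-- An element of the point stabiliser with image above `j` lies above `j`. -/
theorem mem_D_of_P {x : G} (hx : x ∈ S.P) (h : S.φ x ∈ Stab (S.j : ℕ)) : x = S.LD (S.φ x) :=
  S.eq_of_P hx (S.D_le_P (S.LD_mem _)) (S.φ_LD h).symm

theorem Ml_le_P : S.Ml S.i ≤ S.P := by
  intro x hx
  have hm := mem_Mgp.1 (S.φ_Ml S.hi hx)
  set u := act (S.φ x) S.f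
  set a := om u S.f1
  set c := om u S.f
  obtain ⟨y, hy⟩ : ∃ y, y = S.φ ((S.t1 a c)⁻¹ * x) := ⟨_, rfl⟩
  have hyM : y ∈ Mgp S.i := hy ▸ S.φ_Ml S.hi (mul_mem (inv_mem (S.t1_mem a c)) hx)
  have hu : act (S.φ (S.t1 a c)) S.f = u := by
    rw [S.φ_t1, act_Q (S.om_e_e1 a), om_ef, one_smul, map_smul, LinearMap.smul_apply,
      om_ef_ne (Ne.symm S.i_ne_j), smul_zero, zero_smul, add_zero, mul_one]
    have hue : om S.e u = 1 := by
      show om (eb S.i) u = 1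
      conv_lhs => rw [← hm.1 S.i]
      rw [om_act, om_ef]
    refine vec_ext (fun k => ?_) (fun k => ?_)
    · have : om u (eb k) = om S.f (eb k) := by
        conv_lhs => rw [← hm.1 k]
        rw [om_act]
      rw [this]
      simp
    · rcases eq_or_ne k S.i with rfl | hki
      · simp [om_ef_ne (Ne.symm S.i_ne_j), c]
      rcases eq_or_ne k S.j with rfl | hkj
      · simp [om_ef_ne S.i_ne_j, a]
      · have : om u (fb k) = om S.f (fb k) := by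
          conv_lhs => rw [← hm.2 k (fun h => hki (Fin.ext h))
            (fun h => hkj (Fin.ext (by rw [h, S.hij])))]
          rw [om_act]
        rw [this]
        simp [om_ef_ne (Ne.symm hki), om_ef_ne (Ne.symm hkj)]
  have hyf : act y S.f = S.f := by
    rw [hy, map_mul, map_inv, act_mul]
    exact act_inv_eq hu
  have hyS : y ∈ Sgp S.j := by
    refine mem_Sgp.2 fun k hk => ⟨(mem_Mgp.1 hyM).1 k, ?_⟩
    rcases eq_or_ne k S.i with rfl | hki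
    · exact hyf
    · exact (mem_Mgp.1 hyM).2 k (fun h => hki (Fin.ext h))
        fun h => hk (Fin.ext (by rw [h, S.hij]))
  have h : x = S.t1 a c * S.LD y := by
    refine S.B1_inj (S.mem_B1_of_Ml hx)
      (mul_mem (S.mem_B1_of_Ml (S.t1_mem a c)) (S.mem_B1_of_Sl (S.LD_mem_Sl hyS))) ?_
    rw [map_mul, S.φ_LD (S.Sgp_j_le hyS), hy, map_mul, map_inv, mul_inv_cancel_left]
  rw [h, S.t1_eq]
  exact mul_mem (mul_mem (S.T_mem_P ((W _).smul_mem a S.e1_mem)) (S.z_mem_P c))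
    (S.D_le_P (S.LD_mem y))

end Step

end CfsgLib.SpSlim
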